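import Cfsg.Agent.Lib.Helper5.SuzCov.Data

/-! # The sixfold cover of `Suz`: the table of the generator 5 gives a monomial permutation whose square is the power 0 of the rotation
(kernel checks by ranges of blocks) -/

set_option autoImplicit false
set_option maxRecDepth 1000000

namespace Cfsg.Agent.Lib.Helper5.SuzCov

open Cfsg.Agent.PG (allB allB_iff)

theorem mkr5_0 : allB 8190 (fun i => mokb mt5 0 (Nat.add 0 i)) = true := by decide +kernel
theorem mkr5_1 : allB 8190 (fun i => mokb mt5 0 (Nat.add 8190 i)) = true := by decide +kernel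
theorem mkr5_2 : allB 8190 (fun i => mokb mt5 0 (Nat.add 16380 i)) = true := by decide +kernel
theorem mkr5_3 : allB 8190 (fun i => mokb mt5 0 (Nat.add 24570 i)) = true := by decide +kernel

theorem chk_mok5 : MOKb mt5 0 = true := by
  show (Nat.blt 0 6 && allB NB (mokb mt5 0)) = true
  rw [Bool.and_eq_true]
  refine ⟨by decide, ?_⟩
  apply allB_iff.2
  intro a ha
  have ha' : a < 32760 := ha
  rcases Nat.lt_or_ge a 8190 with h0 | h0
  · exact allB_range (f := (mokb mt5 0)) (lo := 0) (len := 8190) mkr5_0 (by omega) (by omega)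
  rcases Nat.lt_or_ge a 16380 with h1 | h1
  · exact allB_range (f := (mokb mt5 0)) (lo := 8190) (len := 8190) mkr5_1 (by omega) (by omega)
  rcases Nat.lt_or_ge a 24570 with h2 | h2
  · exact allB_range (f := (mokb mt5 0)) (lo := 16380) (len := 8190) mkr5_2 (by omega) (by omega)
  exact allB_range (f := (mokb mt5 0)) (lo := 24570) (len := 8190) mkr5_3 (by omega) (by omega)

end Cfsg.Agent.Lib.Helper5.SuzCov
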