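import Cfsg.Agent.Lib.Helper5.SuzCov.Rels
import Cfsg.Agent.Lib.Helper5.SuzCov.ChkM0
import Cfsg.Agent.Lib.Helper5.SuzCov.ChkM1
import Cfsg.Agent.Lib.Helper5.SuzCov.ChkM2
import Cfsg.Agent.Lib.Helper5.SuzCov.ChkM3
import Cfsg.Agent.Lib.Helper5.SuzCov.ChkM4
import Cfsg.Agent.Lib.Helper5.SuzCov.ChkM5
import Cfsg.Agent.Lib.Helper5.SuzCov.ChkM6
import Cfsg.Agent.Lib.Helper6.SuzSimple
import Cfsg.Agent.Lib.Helper5.J3MultE

/-!
# The sixfold cover of the Suzuki group

Seven monomial permutations `mD 0, …, mD 6` of `6 · 32760` rows generate a group `D` that contains the rotation `zetP` of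
the blocks of six rows.  Every relator of the presentation of `Suz` is a power of the rotation on them, so the
generators of `Suz` map to `D` modulo the rotation; this map is onto, and injective because `Suz` is simple.  The
rotation is central of order six and a product of two commutators.  Hence `D → Suz` is a stem extension whose kernel
is cyclic of order six.
-/

set_option autoImplicit false
set_option maxRecDepth 100000

namespace Cfsg.Agent.Lib.Helper5.SuzCov

open Cfsg Cfsg.Spor Cfsg.Agent.Lib.Helper6 Cfsg.Agent.Lib.Helper6.TC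
open scoped commutatorElement

theorem mok_tbS : ∀ x, MOKb (tbS x) (ccS x) = true
  | 0 => chk_mok0
  | 1 => chk_mok1
  | 2 => chk_mok2
  | 3 => chk_mok3
  | 4 => chk_mok4
  | 5 => chk_mok5
  | (_ + 6) => chk_mok6

/-- the seven monomial permutations -/
noncomputable def mD (x : ℕ) : Equiv.Perm (Fin NR) := sig (tbS x) (ccS x)

theorem prod_mD {w : List ℕ} {k : ℕ} (hk : k < 6) (h : relT tbS k w = true) : (w.map mD).prod = zetP ^ k :=
  prod_eq_pow_of_relT tbS ccS mok_tbS hk h

/-- the cover -/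
noncomputable def D : Subgroup (Equiv.Perm (Fin NR)) := Subgroup.closure (mD '' Set.Iio 7)

theorem mD_mem : ∀ x, mD x ∈ D
  | 0 => Subgroup.subset_closure ⟨0, by norm_num, rfl⟩
  | 1 => Subgroup.subset_closure ⟨1, by norm_num, rfl⟩
  | 2 => Subgroup.subset_closure ⟨2, by norm_num, rfl⟩
  | 3 => Subgroup.subset_closure ⟨3, by norm_num, rfl⟩
  | 4 => Subgroup.subset_closure ⟨4, by norm_num, rfl⟩
  | 5 => Subgroup.subset_closure ⟨5, by norm_num, rfl⟩
  | (_ + 6) => Subgroup.subset_closure ⟨6, by norm_num, rfl⟩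

theorem prod_mem (w : List ℕ) : (w.map mD).prod ∈ D := by
  apply Subgroup.list_prod_mem
  intro y hy
  rw [List.mem_map] at hy
  obtain ⟨x, -, rfl⟩ := hy
  exact mD_mem x

/-! ### the relators -/

theorem rel_get : ∀ i, i < 54 → ∃ k, k < 6 ∧ relT tbS k (relWords.getD i []) = true := by
  intro i hi
  interval_cases i
  · exact ⟨0, by norm_num, rel_r0⟩
  · exact ⟨0, by norm_num, rel_r1⟩
  · exact ⟨0, by norm_num, rel_r2⟩
  · exact ⟨3, by norm_num, rel_r3⟩
  · exact ⟨3, by norm_num, rel_r4⟩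
  · exact ⟨0, by norm_num, rel_r5⟩
  · exact ⟨0, by norm_num, rel_r6⟩
  · exact ⟨0, by norm_num, rel_r7⟩
  · exact ⟨0, by norm_num, rel_r8⟩
  · exact ⟨3, by norm_num, rel_r9⟩
  · exact ⟨3, by norm_num, rel_r10⟩
  · exact ⟨3, by norm_num, rel_r11⟩
  · exact ⟨0, by norm_num, rel_r12⟩
  · exact ⟨0, by norm_num, rel_r13⟩
  · exact ⟨0, by norm_num, rel_r14⟩
  · exact ⟨3, by norm_num, rel_r15⟩
  · exact ⟨0, by norm_num, rel_r16⟩
  · exact ⟨0, by norm_num, rel_r17⟩
  · exact ⟨3, by norm_num, rel_r18⟩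
  · exact ⟨0, by norm_num, rel_r19⟩
  · exact ⟨0, by norm_num, rel_r20⟩
  · exact ⟨3, by norm_num, rel_r21⟩
  · exact ⟨3, by norm_num, rel_r22⟩
  · exact ⟨0, by norm_num, rel_r23⟩
  · exact ⟨3, by norm_num, rel_r24⟩
  · exact ⟨3, by norm_num, rel_r25⟩
  · exact ⟨3, by norm_num, rel_r26⟩
  · exact ⟨3, by norm_num, rel_r27⟩
  · exact ⟨3, by norm_num, rel_r28⟩
  · exact ⟨3, by norm_num, rel_r29⟩
  · exact ⟨3, by norm_num, rel_r30⟩
  · exact ⟨3, by norm_num, rel_r31⟩
  · exact ⟨3, by norm_num, rel_r32⟩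
  · exact ⟨3, by norm_num, rel_r33⟩
  · exact ⟨3, by norm_num, rel_r34⟩
  · exact ⟨0, by norm_num, rel_r35⟩
  · exact ⟨0, by norm_num, rel_r36⟩
  · exact ⟨0, by norm_num, rel_r37⟩
  · exact ⟨3, by norm_num, rel_r38⟩
  · exact ⟨3, by norm_num, rel_r39⟩
  · exact ⟨0, by norm_num, rel_r40⟩
  · exact ⟨0, by norm_num, rel_r41⟩
  · exact ⟨0, by norm_num, rel_r42⟩
  · exact ⟨0, by norm_num, rel_r43⟩
  · exact ⟨0, by norm_num, rel_r44⟩
  · exact ⟨3, by norm_num, rel_r45⟩
  · exact ⟨3, by norm_num, rel_r46⟩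
  · exact ⟨0, by norm_num, rel_r47⟩
  · exact ⟨0, by norm_num, rel_r48⟩
  · exact ⟨0, by norm_num, rel_r49⟩
  · exact ⟨0, by norm_num, rel_r50⟩
  · exact ⟨0, by norm_num, rel_r51⟩
  · exact ⟨4, by norm_num, rel_r52⟩
  · exact ⟨3, by norm_num, rel_r53⟩

theorem relWords_length : relWords.length = 54 := by decide

theorem rel_mem {w : List ℕ} (hw : w ∈ relWords) : ∃ k, k < 6 ∧ (w.map mD).prod = zetP ^ k := by
  obtain ⟨i, hi, rfl⟩ := List.mem_iff_getElem.1 hw
  obtain ⟨k, hk, h⟩ := rel_get i (by rw [← relWords_length]; exact hi)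
  rw [List.getD_eq_getElem _ _ hi] at h
  exact ⟨k, hk, prod_mD hk h⟩

theorem relWords_eq : relWords = coxWordsL Suz.edges SuzTC.data.gen 7 ++ SuzTC.data.extraWords := by
  decide +kernel

/-! ### the rotation -/

theorem pow_seven : zetP ^ 3 * zetP ^ 4 = zetP := by
  rw [← pow_add, show 3 + 4 = 6 + 1 by norm_num, pow_add, zetP_pow_six, one_mul, pow_one]

theorem zetP_mem : zetP ∈ D := by
  rw [← pow_seven, ← prod_mD (by norm_num) rel_W2, ← prod_mD (by norm_num) rel_W3]
  exact D.mul_mem (prod_mem _) (prod_mem _)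

/-- the rotation, in the cover -/
noncomputable def zD : ↥D := ⟨zetP, zetP_mem⟩

theorem zD_val : (zD : Equiv.Perm (Fin NR)) = zetP := rfl

theorem mD_comm (x : ℕ) : mD x * zetP = zetP * mD x := sig_comm_zetP _ _

theorem zD_mem_center : zD ∈ Subgroup.center ↥D := by
  rw [Subgroup.mem_center_iff]
  have key : ∀ q ∈ D, q * zetP = zetP * q := by
    intro q hq
    unfold D at hq
    induction hq using Subgroup.closure_induction with
    | mem q hq =>
      obtain ⟨i, -, rfl⟩ := hq
      exact mD_comm i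
    | one => simp
    | mul a b _ _ ha hb => rw [mul_assoc, hb, ← mul_assoc, ha, mul_assoc]
    | inv a _ ha =>
      rw [inv_mul_eq_iff_eq_mul, ← mul_assoc, ha, mul_assoc, mul_inv_cancel, mul_one]
  intro d
  apply Subtype.ext
  rw [Subgroup.coe_mul, Subgroup.coe_mul, zD_val]
  exact key d.1 d.2

theorem orderOf_zD : orderOf zD = 6 := by
  rw [← orderOf_zetP, ← zD_val]
  exact (Subgroup.orderOf_coe zD).symm

/-- an element of `D` given by a word -/
noncomputable def wD (w : List ℕ) : ↥D := ⟨(w.map mD).prod, prod_mem w⟩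

theorem wD_append (u v : List ℕ) : wD (u ++ v) = wD u * wD v := by
  apply Subtype.ext
  rw [Subgroup.coe_mul]
  show ((u ++ v).map mD).prod = (u.map mD).prod * (v.map mD).prod
  rw [List.map_append, List.prod_append]

theorem wD_of_rel {w : List ℕ} {k : ℕ} (hk : k < 6) (h : relT tbS k w = true) : wD w = zD ^ k := by
  apply Subtype.ext
  rw [Subgroup.coe_pow, zD_val]
  exact prod_mD hk h

theorem comm_of_rel {u ui v vi : List ℕ} {k : ℕ} (hk : k < 6) (hu : relT tbS 0 (u ++ ui) = true)
    (hv : relT tbS 0 (v ++ vi) = true) (h : relT tbS k (u ++ (v ++ (ui ++ vi))) = true) :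
    zD ^ k ∈ commutator ↥D := by
  have e1 : wD ui = (wD u)⁻¹ := by
    apply eq_inv_of_mul_eq_one_right
    rw [← wD_append, wD_of_rel (by norm_num) hu, pow_zero]
  have e2 : wD vi = (wD v)⁻¹ := by
    apply eq_inv_of_mul_eq_one_right
    rw [← wD_append, wD_of_rel (by norm_num) hv, pow_zero]
  have e : zD ^ k = ⁅wD u, wD v⁆ := by
    rw [← wD_of_rel hk h, wD_append, wD_append, wD_append, e1, e2, commutatorElement_def, mul_assoc, mul_assoc]
  rw [e]
  exact Subgroup.commutator_mem_commutator (Subgroup.mem_top _) (Subgroup.mem_top _)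

/-- **the rotation is a product of two commutators** -/
theorem zD_mem_commutator : zD ∈ commutator ↥D := by
  have h3 : zD ^ 3 ∈ commutator ↥D := comm_of_rel (by norm_num) rel_X2X2i rel_Y2Y2i rel_W2
  have h4 : zD ^ 4 ∈ commutator ↥D := comm_of_rel (by norm_num) rel_X3X3i rel_Y3Y3i rel_W3
  have e : zD = zD ^ 3 * zD ^ 4 := by
    apply Subtype.ext
    rw [Subgroup.coe_mul, Subgroup.coe_pow, Subgroup.coe_pow, zD_val, pow_seven]
  rw [e]
  exact Subgroup.mul_mem _ h3 h4

/-- the group generated by the rotation -/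
noncomputable def Z : Subgroup ↥D := Subgroup.zpowers zD

theorem Z_le_center : Z ≤ Subgroup.center ↥D := by
  unfold Z
  rw [Subgroup.zpowers_le]
  exact zD_mem_center

instance Z_normal : Z.Normal := ⟨fun n hn g => by
  have h := Z_le_center hn
  rw [Subgroup.mem_center_iff] at h
  rw [h g, mul_assoc, mul_inv_cancel, mul_one]
  exact hn⟩

theorem card_Z : Nat.card ↥Z = 6 := by
  unfold Z
  rw [Nat.card_zpowers, orderOf_zD]

/-! ### the map from the presented group -/

/-- the generators of the cover modulo the rotation -/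
noncomputable def mQ (x : ℕ) : ↥D ⧸ Z := QuotientGroup.mk (⟨mD x, mD_mem x⟩ : ↥D)

theorem prod_mQ (w : List ℕ) : (w.map mQ).prod = QuotientGroup.mk (wD w) := by
  induction w with
  | nil => rfl
  | cons x w ih =>
    rw [List.map_cons, List.prod_cons, ih]
    rfl

theorem prod_mQ_eq_one {w : List ℕ} (hw : w ∈ relWords) : (w.map mQ).prod = 1 := by
  obtain ⟨k, hk, h⟩ := rel_mem hw
  rw [prod_mQ, QuotientGroup.eq_one_iff]
  have : wD w = zD ^ k := by
    apply Subtype.ext
    rw [Subgroup.coe_pow, zD_val]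
    exact h
  rw [this]
  exact Subgroup.pow_mem _ (Subgroup.mem_zpowers zD) k

/-- the images of the generators of the presentation -/
noncomputable def fQ (y : Suz.Gen) : ↥D ⧸ Z := mQ (SuzTC.data.code y)

theorem fQ_gen {x : ℕ} (hx : x < 7) : fQ (SuzTC.data.gen x) = mQ x := by
  unfold fQ
  rw [SuzTC.data.hgen x hx]

theorem letters_lt {w : List ℕ} (hw : w ∈ relWords) : ∀ x ∈ w, x < 7 := by
  have h : relWords.all (fun w => w.all fun x => Nat.blt x 7) = true := by decide
  intro x hx
  have := List.all_eq_true.1 (List.all_eq_true.1 h w hw) x hx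
  rwa [Nat.blt_eq] at this

theorem word_fQ {w : List ℕ} (hw : w ∈ relWords) : (w.map (fun x => fQ (SuzTC.data.gen x))).prod = 1 := by
  rw [← prod_mQ_eq_one hw]
  congr 1
  apply List.map_congr_left
  intro x hx
  exact fQ_gen (letters_lt hw x hx)

theorem fQ_mul_self (y : Suz.Gen) : fQ y * fQ y = 1 := by
  obtain ⟨hlt, hgen⟩ := SuzTC.data.hcode y
  have hm := mem_coxWordsL Suz.edges SuzTC.data.gen hlt hlt
  have hw : rep2 (SuzTC.data.code y) (SuzTC.data.code y)
      (coxLabel Suz.edges (SuzTC.data.gen (SuzTC.data.code y)) (SuzTC.data.gen (SuzTC.data.code y))) ∈ relWords := by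
    rw [relWords_eq]
    exact List.mem_append_left _ hm
  have := word_fQ hw
  rw [prod_rep2 (fun x => fQ (SuzTC.data.gen x)), hgen] at this
  have hl : coxLabel Suz.edges y y = 1 := by
    unfold coxLabel
    rw [if_pos rfl]
  rw [hl, pow_one] at this
  exact this

theorem lift_eq_one : ∀ r ∈ coxRelators Suz.edges ∪ {r | r ∈ Suz.extra}, FreeGroup.lift fQ r = 1 := by
  intro r hr
  rcases hr with ⟨x, _, y, _, rfl⟩ | hr
  · rw [map_pow, map_mul, FreeGroup.lift_apply_of, FreeGroup.lift_apply_of]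
    have hx := SuzTC.data.hcode x
    have hy := SuzTC.data.hcode y
    have hm := mem_coxWordsL Suz.edges SuzTC.data.gen hx.1 hy.1
    have hw : rep2 (SuzTC.data.code x) (SuzTC.data.code y)
        (coxLabel Suz.edges (SuzTC.data.gen (SuzTC.data.code x)) (SuzTC.data.gen (SuzTC.data.code y))) ∈ relWords := by
      rw [relWords_eq]
      exact List.mem_append_left _ hm
    have := word_fQ hw
    rw [prod_rep2 (fun x => fQ (SuzTC.data.gen x)), hx.2, hy.2] at this
    exact this
  · have := (SuzTC.data.hextra fQ fQ_mul_self).2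
      (fun w hw => word_fQ (by rw [relWords_eq]; exact List.mem_append_right _ hw))
    exact this r hr

/-- the map from the presented group onto the cover modulo the rotation -/
noncomputable def φ : Suz →* ↥D ⧸ Z := PresentedGroup.toGroup lift_eq_one

theorem φ_of (y : Suz.Gen) : φ (PresentedGroup.of y) = fQ y := PresentedGroup.toGroup.of _

theorem φ_surjective : Function.Surjective φ := by
  intro q
  induction q using QuotientGroup.induction_on with
  | H d =>
    obtain ⟨d, hd⟩ := d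
    unfold D at hd
    induction hd using Subgroup.closure_induction with
    | mem y hy =>
      obtain ⟨i, hi, rfl⟩ := hy
      have hi' : i < 7 := hi
      refine ⟨PresentedGroup.of (SuzTC.data.gen i), ?_⟩
      rw [φ_of, fQ_gen hi']
      rfl
    | one => exact ⟨1, map_one _⟩
    | mul a b ha hb iha ihb =>
      obtain ⟨x, hx⟩ := iha
      obtain ⟨y, hy⟩ := ihb
      refine ⟨x * y, ?_⟩
      rw [map_mul, hx, hy]
      rfl
    | inv a ha iha =>
      obtain ⟨x, hx⟩ := iha
      refine ⟨x⁻¹, ?_⟩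
      rw [map_inv, hx]
      rfl

/-- the permutations that preserve the blocks -/
def blockPres : Subgroup (Equiv.Perm (Fin NR)) where
  carrier := {g | ∀ p : Fin NR, (g p).1 / 6 = p.1 / 6}
  mul_mem' := fun {a b} ha hb p => by rw [Equiv.Perm.mul_apply, ha, hb]
  one_mem' := fun p => rfl
  inv_mem' := fun {g} hg p => by
    have e : g (g⁻¹ p) = p := by rw [← Equiv.Perm.mul_apply, mul_inv_cancel, Equiv.Perm.one_apply]
    have := hg (g⁻¹ p)
    rw [e] at this
    exact this.symm

theorem zetP_blockPres : zetP ∈ blockPres := by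
  intro p
  rw [zetP_apply, zetK_eq]
  omega

theorem chk_m0 : Nat.beq (Nat.div (mact mt0 0) 6) 0 = false := by decide +kernel

theorem mD_zero_not : mD 0 ∉ blockPres := by
  intro h
  have h1 := h ⟨0, by norm_num⟩
  rw [mD, sig_apply (mok_tbS 0)] at h1
  have h2 := chk_m0
  have h3 : Nat.div (mact mt0 0) 6 = 0 := h1
  rw [h3] at h2
  exact Bool.noConfusion h2

theorem mQ_zero_ne : mQ 0 ≠ 1 := by
  intro h
  unfold mQ at h
  rw [QuotientGroup.eq_one_iff] at h
  have hle : Z.map D.subtype ≤ blockPres := by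
    unfold Z
    rw [MonoidHom.map_zpowers, Subgroup.zpowers_le]
    exact zetP_blockPres
  exact mD_zero_not (hle ⟨_, h, rfl⟩)

theorem φ_injective : Function.Injective φ := by
  have hs : IsSimpleGroup Suz := SuzSimple.main.1
  rcases hs.eq_bot_or_eq_top_of_normal φ.ker inferInstance with h | h
  · exact (MonoidHom.ker_eq_bot_iff φ).1 h
  · exfalso
    have : PresentedGroup.of (SuzTC.data.gen 0) ∈ φ.ker := by rw [h]; exact Subgroup.mem_top _
    rw [MonoidHom.mem_ker, φ_of, fQ_gen (by norm_num)] at this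
    exact mQ_zero_ne this

/-- the cover modulo the rotation is the presented group -/
noncomputable def isoQ : Suz ≃* ↥D ⧸ Z := MulEquiv.ofBijective φ ⟨φ_injective, φ_surjective⟩

/-- **the cover** -/
noncomputable def πD : ↥D →* Suz := isoQ.symm.toMonoidHom.comp (QuotientGroup.mk' Z)

theorem πD_surjective : Function.Surjective πD :=
  isoQ.symm.surjective.comp (QuotientGroup.mk'_surjective Z)

theorem ker_πD : πD.ker = Z := by
  ext x
  rw [MonoidHom.mem_ker]
  show isoQ.symm (QuotientGroup.mk' Z x) = 1 ↔ x ∈ Z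
  rw [isoQ.symm.map_eq_one_iff, QuotientGroup.mk'_apply, QuotientGroup.eq_one_iff]

/-- **the cover is a stem extension** -/
theorem stem_πD : IsStemExtension πD := by
  refine ⟨πD_surjective, ?_, ?_⟩
  · rw [ker_πD]
    exact Z_le_center
  · rw [ker_πD]
    unfold Z
    rw [Subgroup.zpowers_le]
    exact zD_mem_commutator

theorem card_ker_πD : Nat.card ↥πD.ker = 6 := by rw [ker_πD, card_Z]

theorem isCyclic_ker_πD : IsCyclic ↥πD.ker := by
  rw [ker_πD]
  unfold Z
  infer_instance

theorem card_D : Nat.card ↥D = 2690072985600 := by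
  have h1 : Nat.card ↥D = Nat.card (↥D ⧸ Z) * Nat.card ↥Z := Subgroup.card_eq_card_quotient_mul_card_subgroup Z
  have h2 : Nat.card (↥D ⧸ Z) = Nat.card Suz := (Nat.card_congr isoQ.toEquiv).symm
  rw [h1, h2, SuzSimple.main.2, card_Z]

end Cfsg.Agent.Lib.Helper5.SuzCov
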