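import Mathlib
import Cfsg.Agent.Lib.Lead.PG.Pk
import Cfsg.Agent.Lib.Helper5.J3FusA

/-!
# Monomial permutations of `6 · 32760` rows given by tables

The rows come in `32760` blocks of six; `zetP` rotates every block.  A table `t` gives the images of the first rows of
the blocks; `mact t` extends it to all the rows so that it commutes with the rotation.  The check `MOKb t c` says that
the square of `mact t` is the `c`-th power of the rotation; then `sig t c` is a permutation.  A word in such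
permutations is a power of the rotation as soon as it moves the first row of every block inside its block by the same
amount.
-/

set_option autoImplicit false

namespace Cfsg.Agent.Lib.Helper5.SuzCov

open Cfsg.Agent.PG (allB allB_iff)
open Cfsg.Agent.Lib.Helper5.J3Fus (strictN strictN_eq)

/-- the number of rows -/
abbrev NR : ℕ := 196560
/-- the number of blocks -/
abbrev NB : ℕ := 32760

/-- rotate a row by `k` inside its block -/
def zetK (k p : ℕ) : ℕ := Nat.add (Nat.mul 6 (Nat.div p 6)) (Nat.mod (Nat.add (Nat.mod p 6) k) 6)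

theorem zetK_eq (k p : ℕ) : zetK k p = 6 * (p / 6) + (p % 6 + k) % 6 := rfl

theorem zetK_lt {k p : ℕ} (h : p < NR) : zetK k p < NR := by
  rw [zetK_eq]
  show _ < 196560
  have : p < 196560 := h
  omega

theorem zetK_zetK (j k p : ℕ) : zetK j (zetK k p) = zetK (j + k) p := by
  simp only [zetK_eq]
  omega

theorem zetK_of_mod {k : ℕ} (h : k % 6 = 0) (p : ℕ) : zetK k p = p := by
  rw [zetK_eq]
  omega

/-- the rotation of the blocks, as a permutation -/
def zetP : Equiv.Perm (Fin NR) where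
  toFun p := ⟨zetK 1 p.1, zetK_lt p.2⟩
  invFun p := ⟨zetK 5 p.1, zetK_lt p.2⟩
  left_inv p := Fin.ext (by
    show zetK 5 (zetK 1 p.1) = p.1
    rw [zetK_zetK]
    exact zetK_of_mod rfl _)
  right_inv p := Fin.ext (by
    show zetK 1 (zetK 5 p.1) = p.1
    rw [zetK_zetK]
    exact zetK_of_mod rfl _)

theorem zetP_apply (p : Fin NR) : ((zetP p : Fin NR) : ℕ) = zetK 1 p.1 := rfl

theorem zetP_pow_apply (k : ℕ) (p : Fin NR) : (((zetP ^ k) p : Fin NR) : ℕ) = zetK k p.1 := by
  induction k generalizing p with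
  | zero => rw [pow_zero, Equiv.Perm.one_apply, zetK_of_mod rfl]
  | succ k ih => rw [pow_succ, Equiv.Perm.mul_apply, ih, zetP_apply, zetK_zetK]

theorem zetP_pow_six : zetP ^ 6 = 1 := by
  ext p
  rw [zetP_pow_apply, Equiv.Perm.one_apply, zetK_of_mod rfl]

theorem zetP_pow_ne_one {k : ℕ} (h : k % 6 ≠ 0) : zetP ^ k ≠ 1 := by
  intro h1
  have := congrArg (fun σ : Equiv.Perm (Fin NR) => ((σ ⟨0, by norm_num⟩ : Fin NR) : ℕ)) h1
  simp only [zetP_pow_apply, Equiv.Perm.one_apply, zetK_eq] at this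
  omega

theorem orderOf_zetP : orderOf zetP = 6 := by
  apply orderOf_eq_of_pow_and_pow_div_prime (by norm_num) zetP_pow_six
  intro p hp hd
  have hp6 : p ∣ 6 := hd
  have hle : p ≤ 6 := Nat.le_of_dvd (by norm_num) hp6
  have h2 := hp.two_le
  interval_cases p
  · exact zetP_pow_ne_one (by norm_num)
  · exact zetP_pow_ne_one (by norm_num)
  · exact absurd hp (by norm_num)
  · exact absurd hp6 (by norm_num)
  · exact absurd hp (by norm_num)

/-- the image of a row under the monomial permutation with the table `t` of images of the first rows of the blocks -/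
def mact (t : ℕ → ℕ) (p : ℕ) : ℕ :=
  strictN (t (Nat.div p 6)) fun e =>
    Nat.add (Nat.mul 6 (Nat.div e 6)) (Nat.mod (Nat.add (Nat.mod e 6) (Nat.mod p 6)) 6)

theorem mact_eq (t : ℕ → ℕ) (p : ℕ) : mact t p = 6 * (t (p / 6) / 6) + (t (p / 6) % 6 + p % 6) % 6 := by
  rw [mact, strictN_eq]
  rfl

theorem mact_zetK (t : ℕ → ℕ) (k p : ℕ) : mact t (zetK k p) = zetK k (mact t p) := by
  have h1 : zetK k p / 6 = p / 6 := by rw [zetK_eq]; omega
  have h2 : zetK k p % 6 = (p % 6 + k) % 6 := by rw [zetK_eq]; omega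
  rw [mact_eq, mact_eq, h1, h2, zetK_eq]
  generalize t (p / 6) = e
  omega

/-- the check of a block: the image of its first row is a row, and the square moves the first row by `c` -/
def mokb (t : ℕ → ℕ) (c a : ℕ) : Bool :=
  Nat.blt (t a) NR && Nat.beq (mact t (t a)) (Nat.add (Nat.mul 6 a) c)

/-- the check of a table -/
def MOKb (t : ℕ → ℕ) (c : ℕ) : Bool := Nat.blt c 6 && allB NB (mokb t c)

theorem mokb_spec {t : ℕ → ℕ} {c : ℕ} (h : MOKb t c = true) : c < 6 ∧ ∀ a, a < NB →
    t a < NR ∧ mact t (t a) = 6 * a + c := by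
  rw [MOKb, Bool.and_eq_true, Nat.blt_eq] at h
  refine ⟨h.1, fun a ha => ?_⟩
  have := allB_iff.1 h.2 a ha
  rw [mokb, Bool.and_eq_true, Nat.blt_eq] at this
  exact ⟨this.1, Nat.eq_of_beq_eq_true this.2⟩

theorem mact_lt {t : ℕ → ℕ} {c : ℕ} (h : MOKb t c = true) {p : ℕ} (hp : p < NR) : mact t p < NR := by
  have hp' : p < 196560 := hp
  have ha : p / 6 < NB := by show p / 6 < 32760; omega
  have h1 : t (p / 6) < 196560 := ((mokb_spec h).2 _ ha).1
  rw [mact_eq]
  show _ < 196560
  generalize t (p / 6) = e at h1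
  omega

theorem mact_mact {t : ℕ → ℕ} {c : ℕ} (h : MOKb t c = true) {p : ℕ} (hp : p < NR) :
    mact t (mact t p) = zetK c p := by
  have hp' : p < 196560 := hp
  have ha : p / 6 < NB := by show p / 6 < 32760; omega
  obtain ⟨hc, hall⟩ := mokb_spec h
  obtain ⟨-, h2⟩ := hall _ ha
  rw [mact_eq] at h2
  have e1 : mact t p / 6 = t (p / 6) / 6 := by rw [mact_eq]; omega
  have e2 : mact t p % 6 = (t (p / 6) % 6 + p % 6) % 6 := by rw [mact_eq]; omega
  rw [mact_eq t (mact t p), e1, e2, zetK_eq]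
  generalize t (p / 6) = e at h2 ⊢
  generalize t (e / 6) = u at h2 ⊢
  omega

/-- the permutation of a checked table -/
noncomputable def sig (t : ℕ → ℕ) (c : ℕ) : Equiv.Perm (Fin NR) :=
  if h : MOKb t c = true then
    { toFun := fun p => ⟨mact t p.1, mact_lt h p.2⟩
      invFun := fun p => ⟨zetK (6 - c) (mact t p.1), zetK_lt (mact_lt h p.2)⟩
      left_inv := fun p => Fin.ext (by
        show zetK (6 - c) (mact t (mact t p.1)) = p.1
        rw [mact_mact h p.2, zetK_zetK]
        exact zetK_of_mod (by have := (mokb_spec h).1; omega) _)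
      right_inv := fun p => Fin.ext (by
        show mact t (zetK (6 - c) (mact t p.1)) = p.1
        rw [mact_zetK, mact_mact h p.2, zetK_zetK]
        exact zetK_of_mod (by have := (mokb_spec h).1; omega) _) }
  else 1

theorem sig_apply {t : ℕ → ℕ} {c : ℕ} (h : MOKb t c = true) (p : Fin NR) :
    ((sig t c p : Fin NR) : ℕ) = mact t p.1 := by
  rw [sig, dif_pos h]
  rfl

theorem sig_comm_zetP (t : ℕ → ℕ) (c : ℕ) : sig t c * zetP = zetP * sig t c := by
  by_cases h : MOKb t c = true
  · ext p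
    rw [Equiv.Perm.mul_apply, Equiv.Perm.mul_apply, sig_apply h, zetP_apply, zetP_apply, sig_apply h, mact_zetK]
  · rw [sig, dif_neg h, one_mul, mul_one]

/-! ### words -/

/-- the image of a row under a word (the last letter acts first) -/
def trW (tb : ℕ → ℕ → ℕ) (w : List ℕ) (p : ℕ) : ℕ := w.foldr (fun x q => mact (tb x) q) p

theorem trW_nil (tb : ℕ → ℕ → ℕ) (p : ℕ) : trW tb [] p = p := rfl

theorem trW_cons (tb : ℕ → ℕ → ℕ) (x : ℕ) (w : List ℕ) (p : ℕ) :
    trW tb (x :: w) p = mact (tb x) (trW tb w p) := rfl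

theorem prod_apply (tb : ℕ → ℕ → ℕ) (cc : ℕ → ℕ) (hcd : ∀ x, MOKb (tb x) (cc x) = true) :
    ∀ (w : List ℕ) (p : Fin NR), ((((w.map fun x => sig (tb x) (cc x)).prod) p : Fin NR) : ℕ) = trW tb w p.1
  | [], p => rfl
  | x :: w, p => by
    rw [List.map_cons, List.prod_cons, Equiv.Perm.mul_apply, sig_apply (hcd x), prod_apply tb cc hcd w p, trW_cons]

theorem prod_comm_zetP (tb : ℕ → ℕ → ℕ) (cc : ℕ → ℕ) : ∀ w : List ℕ,
    ((w.map fun x => sig (tb x) (cc x)).prod) * zetP = zetP * ((w.map fun x => sig (tb x) (cc x)).prod)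
  | [] => by simp
  | x :: w => by
    rw [List.map_cons, List.prod_cons, mul_assoc, prod_comm_zetP tb cc w, ← mul_assoc, sig_comm_zetP, mul_assoc]

/-- the check of a word: the first row of every block goes to the row `k` of the block -/
def relT (tb : ℕ → ℕ → ℕ) (k : ℕ) (w : List ℕ) : Bool :=
  allB NB fun a => Nat.beq (trW tb w (Nat.mul 6 a)) (Nat.add (Nat.mul 6 a) k)

theorem eq_of_comm_of_first {τ ρ : Equiv.Perm (Fin NR)} (hτ : τ * zetP = zetP * τ) (hρ : ρ * zetP = zetP * ρ)
    (h : ∀ a : ℕ, ∀ ha : 6 * a < NR, τ ⟨6 * a, ha⟩ = ρ ⟨6 * a, ha⟩) : τ = ρ := by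
  have hτ' : ∀ j : ℕ, τ * zetP ^ j = zetP ^ j * τ := fun j => (Commute.pow_right hτ j)
  have hρ' : ∀ j : ℕ, ρ * zetP ^ j = zetP ^ j * ρ := fun j => (Commute.pow_right hρ j)
  ext p
  have hp : p.1 < 196560 := p.2
  have ha : 6 * (p.1 / 6) < NR := by show _ < 196560; omega
  set q : Fin NR := ⟨6 * (p.1 / 6), ha⟩ with hq
  have hpq : p = (zetP ^ (p.1 % 6)) q := by
    apply Fin.ext
    rw [zetP_pow_apply, zetK_eq]
    show p.1 = 6 * (6 * (p.1 / 6) / 6) + (6 * (p.1 / 6) % 6 + p.1 % 6) % 6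
    omega
  have e1 : τ ((zetP ^ (p.1 % 6)) q) = (zetP ^ (p.1 % 6)) (τ q) := by
    have := congrArg (fun σ : Equiv.Perm (Fin NR) => σ q) (hτ' (p.1 % 6))
    simpa [Equiv.Perm.mul_apply] using this
  have e2 : ρ ((zetP ^ (p.1 % 6)) q) = (zetP ^ (p.1 % 6)) (ρ q) := by
    have := congrArg (fun σ : Equiv.Perm (Fin NR) => σ q) (hρ' (p.1 % 6))
    simpa [Equiv.Perm.mul_apply] using this
  rw [hpq, e1, e2, h _ ha]

/-- **a checked word is a power of the rotation** -/
theorem prod_eq_pow_of_relT (tb : ℕ → ℕ → ℕ) (cc : ℕ → ℕ) (hcd : ∀ x, MOKb (tb x) (cc x) = true) {w : List ℕ}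
    {k : ℕ} (hk : k < 6) (h : relT tb k w = true) : ((w.map fun x => sig (tb x) (cc x)).prod) = zetP ^ k := by
  apply eq_of_comm_of_first (prod_comm_zetP tb cc w) (Commute.pow_left (Commute.refl zetP) k)
  intro a ha
  apply Fin.ext
  rw [prod_apply tb cc hcd, zetP_pow_apply]
  have ha' : a < NB := by
    have : 6 * a < 196560 := ha
    show a < 32760
    omega
  have := Nat.eq_of_beq_eq_true (allB_iff.1 h a ha')
  rw [show trW tb w (6 * a) = Nat.add (Nat.mul 6 a) k from this]
  show 6 * a + k = zetK k (6 * a)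
  rw [zetK_eq]
  omega

/-- a check on a range of indices -/
theorem allB_range {f : ℕ → Bool} {lo len : ℕ} (h : allB len (fun i => f (Nat.add lo i)) = true) {a : ℕ}
    (h1 : lo ≤ a) (h2 : a < lo + len) : f a = true := by
  have h3 : f (Nat.add lo (a - lo)) = true := allB_iff.1 h (a - lo) (by omega)
  have e : Nat.add lo (a - lo) = a := by
    show lo + (a - lo) = a
    omega
  rw [e] at h3
  exact h3

end Cfsg.Agent.Lib.Helper5.SuzCov
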