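import Cfsg.Agent.Lib.Helper5.SuzCov.Frl

/-! # The sixfold cover of `Suz`: relators traced on the first rows of the blocks (kernel checks by ranges of blocks, part 0) -/

set_option autoImplicit false
set_option maxRecDepth 1000000

namespace Cfsg.Agent.Lib.Helper5.SuzCov

open Cfsg.Agent.PG (allB allB_iff)

theorem trc_r0_0 : allB 15000 (fun i => frl_r0 (Nat.add 0 i)) = true := by decide +kernel
theorem trc_r0_1 : allB 15000 (fun i => frl_r0 (Nat.add 15000 i)) = true := by decide +kernel
theorem trc_r0_2 : allB 2760 (fun i => frl_r0 (Nat.add 30000 i)) = true := by decide +kernel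
theorem trc_r1_0 : allB 3000 (fun i => frl_r1 (Nat.add 0 i)) = true := by decide +kernel
theorem trc_r1_1 : allB 3000 (fun i => frl_r1 (Nat.add 3000 i)) = true := by decide +kernel
theorem trc_r1_2 : allB 3000 (fun i => frl_r1 (Nat.add 6000 i)) = true := by decide +kernel
theorem trc_r1_3 : allB 3000 (fun i => frl_r1 (Nat.add 9000 i)) = true := by decide +kernel
theorem trc_r1_4 : allB 3000 (fun i => frl_r1 (Nat.add 12000 i)) = true := by decide +kernel
theorem trc_r1_5 : allB 3000 (fun i => frl_r1 (Nat.add 15000 i)) = true := by decide +kernel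
theorem trc_r1_6 : allB 3000 (fun i => frl_r1 (Nat.add 18000 i)) = true := by decide +kernel
theorem trc_r1_7 : allB 3000 (fun i => frl_r1 (Nat.add 21000 i)) = true := by decide +kernel
theorem trc_r1_8 : allB 3000 (fun i => frl_r1 (Nat.add 24000 i)) = true := by decide +kernel
theorem trc_r1_9 : allB 3000 (fun i => frl_r1 (Nat.add 27000 i)) = true := by decide +kernel
theorem trc_r1_10 : allB 2760 (fun i => frl_r1 (Nat.add 30000 i)) = true := by decide +kernel
theorem trc_r2_0 : allB 7500 (fun i => frl_r2 (Nat.add 0 i)) = true := by decide +kernel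
theorem trc_r2_1 : allB 7500 (fun i => frl_r2 (Nat.add 7500 i)) = true := by decide +kernel
theorem trc_r2_2 : allB 7500 (fun i => frl_r2 (Nat.add 15000 i)) = true := by decide +kernel
theorem trc_r2_3 : allB 7500 (fun i => frl_r2 (Nat.add 22500 i)) = true := by decide +kernel
theorem trc_r2_4 : allB 2760 (fun i => frl_r2 (Nat.add 30000 i)) = true := by decide +kernel
theorem trc_r3_0 : allB 7500 (fun i => frl_r3 (Nat.add 0 i)) = true := by decide +kernel
theorem trc_r3_1 : allB 7500 (fun i => frl_r3 (Nat.add 7500 i)) = true := by decide +kernel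
theorem trc_r3_2 : allB 7500 (fun i => frl_r3 (Nat.add 15000 i)) = true := by decide +kernel
theorem trc_r3_3 : allB 7500 (fun i => frl_r3 (Nat.add 22500 i)) = true := by decide +kernel
theorem trc_r3_4 : allB 2760 (fun i => frl_r3 (Nat.add 30000 i)) = true := by decide +kernel
theorem trc_r4_0 : allB 7500 (fun i => frl_r4 (Nat.add 0 i)) = true := by decide +kernel
theorem trc_r4_1 : allB 7500 (fun i => frl_r4 (Nat.add 7500 i)) = true := by decide +kernel
theorem trc_r4_2 : allB 7500 (fun i => frl_r4 (Nat.add 15000 i)) = true := by decide +kernel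
theorem trc_r4_3 : allB 7500 (fun i => frl_r4 (Nat.add 22500 i)) = true := by decide +kernel
theorem trc_r4_4 : allB 2760 (fun i => frl_r4 (Nat.add 30000 i)) = true := by decide +kernel
theorem trc_r5_0 : allB 7500 (fun i => frl_r5 (Nat.add 0 i)) = true := by decide +kernel
theorem trc_r5_1 : allB 7500 (fun i => frl_r5 (Nat.add 7500 i)) = true := by decide +kernel
theorem trc_r5_2 : allB 7500 (fun i => frl_r5 (Nat.add 15000 i)) = true := by decide +kernel
theorem trc_r5_3 : allB 7500 (fun i => frl_r5 (Nat.add 22500 i)) = true := by decide +kernel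
theorem trc_r5_4 : allB 2760 (fun i => frl_r5 (Nat.add 30000 i)) = true := by decide +kernel
theorem trc_r6_0 : allB 7500 (fun i => frl_r6 (Nat.add 0 i)) = true := by decide +kernel
theorem trc_r6_1 : allB 7500 (fun i => frl_r6 (Nat.add 7500 i)) = true := by decide +kernel
theorem trc_r6_2 : allB 7500 (fun i => frl_r6 (Nat.add 15000 i)) = true := by decide +kernel
theorem trc_r6_3 : allB 7500 (fun i => frl_r6 (Nat.add 22500 i)) = true := by decide +kernel
theorem trc_r6_4 : allB 2760 (fun i => frl_r6 (Nat.add 30000 i)) = true := by decide +kernel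
theorem trc_r7_0 : allB 3000 (fun i => frl_r7 (Nat.add 0 i)) = true := by decide +kernel

end Cfsg.Agent.Lib.Helper5.SuzCov
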