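import Cfsg.Agent.Lib.Helper5.SuzCov.Frl

/-! # The sixfold cover of `Suz`: relators traced on the first rows of the blocks (kernel checks by ranges of blocks, part 1) -/

set_option autoImplicit false
set_option maxRecDepth 1000000

namespace Cfsg.Agent.Lib.Helper5.SuzCov

open Cfsg.Agent.PG (allB allB_iff)

theorem trc_r7_1 : allB 3000 (fun i => frl_r7 (Nat.add 3000 i)) = true := by decide +kernel
theorem trc_r7_2 : allB 3000 (fun i => frl_r7 (Nat.add 6000 i)) = true := by decide +kernel
theorem trc_r7_3 : allB 3000 (fun i => frl_r7 (Nat.add 9000 i)) = true := by decide +kernel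
theorem trc_r7_4 : allB 3000 (fun i => frl_r7 (Nat.add 12000 i)) = true := by decide +kernel
theorem trc_r7_5 : allB 3000 (fun i => frl_r7 (Nat.add 15000 i)) = true := by decide +kernel
theorem trc_r7_6 : allB 3000 (fun i => frl_r7 (Nat.add 18000 i)) = true := by decide +kernel
theorem trc_r7_7 : allB 3000 (fun i => frl_r7 (Nat.add 21000 i)) = true := by decide +kernel
theorem trc_r7_8 : allB 3000 (fun i => frl_r7 (Nat.add 24000 i)) = true := by decide +kernel
theorem trc_r7_9 : allB 3000 (fun i => frl_r7 (Nat.add 27000 i)) = true := by decide +kernel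
theorem trc_r7_10 : allB 2760 (fun i => frl_r7 (Nat.add 30000 i)) = true := by decide +kernel
theorem trc_r8_0 : allB 15000 (fun i => frl_r8 (Nat.add 0 i)) = true := by decide +kernel
theorem trc_r8_1 : allB 15000 (fun i => frl_r8 (Nat.add 15000 i)) = true := by decide +kernel
theorem trc_r8_2 : allB 2760 (fun i => frl_r8 (Nat.add 30000 i)) = true := by decide +kernel
theorem trc_r9_0 : allB 5000 (fun i => frl_r9 (Nat.add 0 i)) = true := by decide +kernel
theorem trc_r9_1 : allB 5000 (fun i => frl_r9 (Nat.add 5000 i)) = true := by decide +kernel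
theorem trc_r9_2 : allB 5000 (fun i => frl_r9 (Nat.add 10000 i)) = true := by decide +kernel
theorem trc_r9_3 : allB 5000 (fun i => frl_r9 (Nat.add 15000 i)) = true := by decide +kernel
theorem trc_r9_4 : allB 5000 (fun i => frl_r9 (Nat.add 20000 i)) = true := by decide +kernel
theorem trc_r9_5 : allB 5000 (fun i => frl_r9 (Nat.add 25000 i)) = true := by decide +kernel
theorem trc_r9_6 : allB 2760 (fun i => frl_r9 (Nat.add 30000 i)) = true := by decide +kernel
theorem trc_r10_0 : allB 7500 (fun i => frl_r10 (Nat.add 0 i)) = true := by decide +kernel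
theorem trc_r10_1 : allB 7500 (fun i => frl_r10 (Nat.add 7500 i)) = true := by decide +kernel
theorem trc_r10_2 : allB 7500 (fun i => frl_r10 (Nat.add 15000 i)) = true := by decide +kernel
theorem trc_r10_3 : allB 7500 (fun i => frl_r10 (Nat.add 22500 i)) = true := by decide +kernel
theorem trc_r10_4 : allB 2760 (fun i => frl_r10 (Nat.add 30000 i)) = true := by decide +kernel
theorem trc_r11_0 : allB 7500 (fun i => frl_r11 (Nat.add 0 i)) = true := by decide +kernel
theorem trc_r11_1 : allB 7500 (fun i => frl_r11 (Nat.add 7500 i)) = true := by decide +kernel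
theorem trc_r11_2 : allB 7500 (fun i => frl_r11 (Nat.add 15000 i)) = true := by decide +kernel
theorem trc_r11_3 : allB 7500 (fun i => frl_r11 (Nat.add 22500 i)) = true := by decide +kernel
theorem trc_r11_4 : allB 2760 (fun i => frl_r11 (Nat.add 30000 i)) = true := by decide +kernel
theorem trc_r12_0 : allB 5000 (fun i => frl_r12 (Nat.add 0 i)) = true := by decide +kernel
theorem trc_r12_1 : allB 5000 (fun i => frl_r12 (Nat.add 5000 i)) = true := by decide +kernel
theorem trc_r12_2 : allB 5000 (fun i => frl_r12 (Nat.add 10000 i)) = true := by decide +kernel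
theorem trc_r12_3 : allB 5000 (fun i => frl_r12 (Nat.add 15000 i)) = true := by decide +kernel
theorem trc_r12_4 : allB 5000 (fun i => frl_r12 (Nat.add 20000 i)) = true := by decide +kernel
theorem trc_r12_5 : allB 5000 (fun i => frl_r12 (Nat.add 25000 i)) = true := by decide +kernel
theorem trc_r12_6 : allB 2760 (fun i => frl_r12 (Nat.add 30000 i)) = true := by decide +kernel
theorem trc_r13_0 : allB 5000 (fun i => frl_r13 (Nat.add 0 i)) = true := by decide +kernel
theorem trc_r13_1 : allB 5000 (fun i => frl_r13 (Nat.add 5000 i)) = true := by decide +kernel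
theorem trc_r13_2 : allB 5000 (fun i => frl_r13 (Nat.add 10000 i)) = true := by decide +kernel

end Cfsg.Agent.Lib.Helper5.SuzCov
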