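import Cfsg.Agent.Lib.Helper5.SuzCov.Frl

/-! # The sixfold cover of `Suz`: relators traced on the first rows of the blocks (kernel checks by ranges of blocks, part 10) -/

set_option autoImplicit false
set_option maxRecDepth 1000000

namespace Cfsg.Agent.Lib.Helper5.SuzCov

open Cfsg.Agent.PG (allB allB_iff)

theorem trc_r53_52 : allB 384 (fun i => frl_r53 (Nat.add 19968 i)) = true := by decide +kernel
theorem trc_r53_53 : allB 384 (fun i => frl_r53 (Nat.add 20352 i)) = true := by decide +kernel
theorem trc_r53_54 : allB 384 (fun i => frl_r53 (Nat.add 20736 i)) = true := by decide +kernel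
theorem trc_r53_55 : allB 384 (fun i => frl_r53 (Nat.add 21120 i)) = true := by decide +kernel
theorem trc_r53_56 : allB 384 (fun i => frl_r53 (Nat.add 21504 i)) = true := by decide +kernel
theorem trc_r53_57 : allB 384 (fun i => frl_r53 (Nat.add 21888 i)) = true := by decide +kernel
theorem trc_r53_58 : allB 384 (fun i => frl_r53 (Nat.add 22272 i)) = true := by decide +kernel
theorem trc_r53_59 : allB 384 (fun i => frl_r53 (Nat.add 22656 i)) = true := by decide +kernel
theorem trc_r53_60 : allB 384 (fun i => frl_r53 (Nat.add 23040 i)) = true := by decide +kernel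
theorem trc_r53_61 : allB 384 (fun i => frl_r53 (Nat.add 23424 i)) = true := by decide +kernel
theorem trc_r53_62 : allB 384 (fun i => frl_r53 (Nat.add 23808 i)) = true := by decide +kernel
theorem trc_r53_63 : allB 384 (fun i => frl_r53 (Nat.add 24192 i)) = true := by decide +kernel
theorem trc_r53_64 : allB 384 (fun i => frl_r53 (Nat.add 24576 i)) = true := by decide +kernel
theorem trc_r53_65 : allB 384 (fun i => frl_r53 (Nat.add 24960 i)) = true := by decide +kernel
theorem trc_r53_66 : allB 384 (fun i => frl_r53 (Nat.add 25344 i)) = true := by decide +kernel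
theorem trc_r53_67 : allB 384 (fun i => frl_r53 (Nat.add 25728 i)) = true := by decide +kernel
theorem trc_r53_68 : allB 384 (fun i => frl_r53 (Nat.add 26112 i)) = true := by decide +kernel
theorem trc_r53_69 : allB 384 (fun i => frl_r53 (Nat.add 26496 i)) = true := by decide +kernel
theorem trc_r53_70 : allB 384 (fun i => frl_r53 (Nat.add 26880 i)) = true := by decide +kernel
theorem trc_r53_71 : allB 384 (fun i => frl_r53 (Nat.add 27264 i)) = true := by decide +kernel
theorem trc_r53_72 : allB 384 (fun i => frl_r53 (Nat.add 27648 i)) = true := by decide +kernel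
theorem trc_r53_73 : allB 384 (fun i => frl_r53 (Nat.add 28032 i)) = true := by decide +kernel
theorem trc_r53_74 : allB 384 (fun i => frl_r53 (Nat.add 28416 i)) = true := by decide +kernel
theorem trc_r53_75 : allB 384 (fun i => frl_r53 (Nat.add 28800 i)) = true := by decide +kernel
theorem trc_r53_76 : allB 384 (fun i => frl_r53 (Nat.add 29184 i)) = true := by decide +kernel
theorem trc_r53_77 : allB 384 (fun i => frl_r53 (Nat.add 29568 i)) = true := by decide +kernel
theorem trc_r53_78 : allB 384 (fun i => frl_r53 (Nat.add 29952 i)) = true := by decide +kernel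
theorem trc_r53_79 : allB 384 (fun i => frl_r53 (Nat.add 30336 i)) = true := by decide +kernel
theorem trc_r53_80 : allB 384 (fun i => frl_r53 (Nat.add 30720 i)) = true := by decide +kernel
theorem trc_r53_81 : allB 384 (fun i => frl_r53 (Nat.add 31104 i)) = true := by decide +kernel
theorem trc_r53_82 : allB 384 (fun i => frl_r53 (Nat.add 31488 i)) = true := by decide +kernel
theorem trc_r53_83 : allB 384 (fun i => frl_r53 (Nat.add 31872 i)) = true := by decide +kernel
theorem trc_r53_84 : allB 384 (fun i => frl_r53 (Nat.add 32256 i)) = true := by decide +kernel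
theorem trc_r53_85 : allB 120 (fun i => frl_r53 (Nat.add 32640 i)) = true := by decide +kernel
theorem trc_X2X2i_0 : allB 7500 (fun i => frl_X2X2i (Nat.add 0 i)) = true := by decide +kernel
theorem trc_X2X2i_1 : allB 7500 (fun i => frl_X2X2i (Nat.add 7500 i)) = true := by decide +kernel
theorem trc_X2X2i_2 : allB 7500 (fun i => frl_X2X2i (Nat.add 15000 i)) = true := by decide +kernel
theorem trc_X2X2i_3 : allB 7500 (fun i => frl_X2X2i (Nat.add 22500 i)) = true := by decide +kernel
theorem trc_X2X2i_4 : allB 2760 (fun i => frl_X2X2i (Nat.add 30000 i)) = true := by decide +kernel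
theorem trc_Y2Y2i_0 : allB 833 (fun i => frl_Y2Y2i (Nat.add 0 i)) = true := by decide +kernel

end Cfsg.Agent.Lib.Helper5.SuzCov
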