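import Cfsg.Agent.Lib.Helper5.SuzCov.Frl

/-! # The sixfold cover of `Suz`: relators traced on the first rows of the blocks (kernel checks by ranges of blocks, part 11) -/

set_option autoImplicit false
set_option maxRecDepth 1000000

namespace Cfsg.Agent.Lib.Helper5.SuzCov

open Cfsg.Agent.PG (allB allB_iff)

theorem trc_Y2Y2i_1 : allB 833 (fun i => frl_Y2Y2i (Nat.add 833 i)) = true := by decide +kernel
theorem trc_Y2Y2i_2 : allB 833 (fun i => frl_Y2Y2i (Nat.add 1666 i)) = true := by decide +kernel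
theorem trc_Y2Y2i_3 : allB 833 (fun i => frl_Y2Y2i (Nat.add 2499 i)) = true := by decide +kernel
theorem trc_Y2Y2i_4 : allB 833 (fun i => frl_Y2Y2i (Nat.add 3332 i)) = true := by decide +kernel
theorem trc_Y2Y2i_5 : allB 833 (fun i => frl_Y2Y2i (Nat.add 4165 i)) = true := by decide +kernel
theorem trc_Y2Y2i_6 : allB 833 (fun i => frl_Y2Y2i (Nat.add 4998 i)) = true := by decide +kernel
theorem trc_Y2Y2i_7 : allB 833 (fun i => frl_Y2Y2i (Nat.add 5831 i)) = true := by decide +kernel
theorem trc_Y2Y2i_8 : allB 833 (fun i => frl_Y2Y2i (Nat.add 6664 i)) = true := by decide +kernel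
theorem trc_Y2Y2i_9 : allB 833 (fun i => frl_Y2Y2i (Nat.add 7497 i)) = true := by decide +kernel
theorem trc_Y2Y2i_10 : allB 833 (fun i => frl_Y2Y2i (Nat.add 8330 i)) = true := by decide +kernel
theorem trc_Y2Y2i_11 : allB 833 (fun i => frl_Y2Y2i (Nat.add 9163 i)) = true := by decide +kernel
theorem trc_Y2Y2i_12 : allB 833 (fun i => frl_Y2Y2i (Nat.add 9996 i)) = true := by decide +kernel
theorem trc_Y2Y2i_13 : allB 833 (fun i => frl_Y2Y2i (Nat.add 10829 i)) = true := by decide +kernel
theorem trc_Y2Y2i_14 : allB 833 (fun i => frl_Y2Y2i (Nat.add 11662 i)) = true := by decide +kernel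
theorem trc_Y2Y2i_15 : allB 833 (fun i => frl_Y2Y2i (Nat.add 12495 i)) = true := by decide +kernel
theorem trc_Y2Y2i_16 : allB 833 (fun i => frl_Y2Y2i (Nat.add 13328 i)) = true := by decide +kernel
theorem trc_Y2Y2i_17 : allB 833 (fun i => frl_Y2Y2i (Nat.add 14161 i)) = true := by decide +kernel
theorem trc_Y2Y2i_18 : allB 833 (fun i => frl_Y2Y2i (Nat.add 14994 i)) = true := by decide +kernel
theorem trc_Y2Y2i_19 : allB 833 (fun i => frl_Y2Y2i (Nat.add 15827 i)) = true := by decide +kernel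
theorem trc_Y2Y2i_20 : allB 833 (fun i => frl_Y2Y2i (Nat.add 16660 i)) = true := by decide +kernel
theorem trc_Y2Y2i_21 : allB 833 (fun i => frl_Y2Y2i (Nat.add 17493 i)) = true := by decide +kernel
theorem trc_Y2Y2i_22 : allB 833 (fun i => frl_Y2Y2i (Nat.add 18326 i)) = true := by decide +kernel
theorem trc_Y2Y2i_23 : allB 833 (fun i => frl_Y2Y2i (Nat.add 19159 i)) = true := by decide +kernel
theorem trc_Y2Y2i_24 : allB 833 (fun i => frl_Y2Y2i (Nat.add 19992 i)) = true := by decide +kernel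
theorem trc_Y2Y2i_25 : allB 833 (fun i => frl_Y2Y2i (Nat.add 20825 i)) = true := by decide +kernel
theorem trc_Y2Y2i_26 : allB 833 (fun i => frl_Y2Y2i (Nat.add 21658 i)) = true := by decide +kernel
theorem trc_Y2Y2i_27 : allB 833 (fun i => frl_Y2Y2i (Nat.add 22491 i)) = true := by decide +kernel
theorem trc_Y2Y2i_28 : allB 833 (fun i => frl_Y2Y2i (Nat.add 23324 i)) = true := by decide +kernel
theorem trc_Y2Y2i_29 : allB 833 (fun i => frl_Y2Y2i (Nat.add 24157 i)) = true := by decide +kernel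
theorem trc_Y2Y2i_30 : allB 833 (fun i => frl_Y2Y2i (Nat.add 24990 i)) = true := by decide +kernel
theorem trc_Y2Y2i_31 : allB 833 (fun i => frl_Y2Y2i (Nat.add 25823 i)) = true := by decide +kernel
theorem trc_Y2Y2i_32 : allB 833 (fun i => frl_Y2Y2i (Nat.add 26656 i)) = true := by decide +kernel
theorem trc_Y2Y2i_33 : allB 833 (fun i => frl_Y2Y2i (Nat.add 27489 i)) = true := by decide +kernel
theorem trc_Y2Y2i_34 : allB 833 (fun i => frl_Y2Y2i (Nat.add 28322 i)) = true := by decide +kernel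
theorem trc_Y2Y2i_35 : allB 833 (fun i => frl_Y2Y2i (Nat.add 29155 i)) = true := by decide +kernel
theorem trc_Y2Y2i_36 : allB 833 (fun i => frl_Y2Y2i (Nat.add 29988 i)) = true := by decide +kernel
theorem trc_Y2Y2i_37 : allB 833 (fun i => frl_Y2Y2i (Nat.add 30821 i)) = true := by decide +kernel
theorem trc_Y2Y2i_38 : allB 833 (fun i => frl_Y2Y2i (Nat.add 31654 i)) = true := by decide +kernel
theorem trc_Y2Y2i_39 : allB 273 (fun i => frl_Y2Y2i (Nat.add 32487 i)) = true := by decide +kernel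
theorem trc_W2_0 : allB 750 (fun i => frl_W2 (Nat.add 0 i)) = true := by decide +kernel

end Cfsg.Agent.Lib.Helper5.SuzCov
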