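import Cfsg.Agent.Lib.Helper5.SuzCov.Frl

/-! # The sixfold cover of `Suz`: relators traced on the first rows of the blocks (kernel checks by ranges of blocks, part 12) -/

set_option autoImplicit false
set_option maxRecDepth 1000000

namespace Cfsg.Agent.Lib.Helper5.SuzCov

open Cfsg.Agent.PG (allB allB_iff)

theorem trc_W2_1 : allB 750 (fun i => frl_W2 (Nat.add 750 i)) = true := by decide +kernel
theorem trc_W2_2 : allB 750 (fun i => frl_W2 (Nat.add 1500 i)) = true := by decide +kernel
theorem trc_W2_3 : allB 750 (fun i => frl_W2 (Nat.add 2250 i)) = true := by decide +kernel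
theorem trc_W2_4 : allB 750 (fun i => frl_W2 (Nat.add 3000 i)) = true := by decide +kernel
theorem trc_W2_5 : allB 750 (fun i => frl_W2 (Nat.add 3750 i)) = true := by decide +kernel
theorem trc_W2_6 : allB 750 (fun i => frl_W2 (Nat.add 4500 i)) = true := by decide +kernel
theorem trc_W2_7 : allB 750 (fun i => frl_W2 (Nat.add 5250 i)) = true := by decide +kernel
theorem trc_W2_8 : allB 750 (fun i => frl_W2 (Nat.add 6000 i)) = true := by decide +kernel
theorem trc_W2_9 : allB 750 (fun i => frl_W2 (Nat.add 6750 i)) = true := by decide +kernel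
theorem trc_W2_10 : allB 750 (fun i => frl_W2 (Nat.add 7500 i)) = true := by decide +kernel
theorem trc_W2_11 : allB 750 (fun i => frl_W2 (Nat.add 8250 i)) = true := by decide +kernel
theorem trc_W2_12 : allB 750 (fun i => frl_W2 (Nat.add 9000 i)) = true := by decide +kernel
theorem trc_W2_13 : allB 750 (fun i => frl_W2 (Nat.add 9750 i)) = true := by decide +kernel
theorem trc_W2_14 : allB 750 (fun i => frl_W2 (Nat.add 10500 i)) = true := by decide +kernel
theorem trc_W2_15 : allB 750 (fun i => frl_W2 (Nat.add 11250 i)) = true := by decide +kernel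
theorem trc_W2_16 : allB 750 (fun i => frl_W2 (Nat.add 12000 i)) = true := by decide +kernel
theorem trc_W2_17 : allB 750 (fun i => frl_W2 (Nat.add 12750 i)) = true := by decide +kernel
theorem trc_W2_18 : allB 750 (fun i => frl_W2 (Nat.add 13500 i)) = true := by decide +kernel
theorem trc_W2_19 : allB 750 (fun i => frl_W2 (Nat.add 14250 i)) = true := by decide +kernel
theorem trc_W2_20 : allB 750 (fun i => frl_W2 (Nat.add 15000 i)) = true := by decide +kernel
theorem trc_W2_21 : allB 750 (fun i => frl_W2 (Nat.add 15750 i)) = true := by decide +kernel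
theorem trc_W2_22 : allB 750 (fun i => frl_W2 (Nat.add 16500 i)) = true := by decide +kernel
theorem trc_W2_23 : allB 750 (fun i => frl_W2 (Nat.add 17250 i)) = true := by decide +kernel
theorem trc_W2_24 : allB 750 (fun i => frl_W2 (Nat.add 18000 i)) = true := by decide +kernel
theorem trc_W2_25 : allB 750 (fun i => frl_W2 (Nat.add 18750 i)) = true := by decide +kernel
theorem trc_W2_26 : allB 750 (fun i => frl_W2 (Nat.add 19500 i)) = true := by decide +kernel
theorem trc_W2_27 : allB 750 (fun i => frl_W2 (Nat.add 20250 i)) = true := by decide +kernel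
theorem trc_W2_28 : allB 750 (fun i => frl_W2 (Nat.add 21000 i)) = true := by decide +kernel
theorem trc_W2_29 : allB 750 (fun i => frl_W2 (Nat.add 21750 i)) = true := by decide +kernel
theorem trc_W2_30 : allB 750 (fun i => frl_W2 (Nat.add 22500 i)) = true := by decide +kernel
theorem trc_W2_31 : allB 750 (fun i => frl_W2 (Nat.add 23250 i)) = true := by decide +kernel
theorem trc_W2_32 : allB 750 (fun i => frl_W2 (Nat.add 24000 i)) = true := by decide +kernel
theorem trc_W2_33 : allB 750 (fun i => frl_W2 (Nat.add 24750 i)) = true := by decide +kernel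
theorem trc_W2_34 : allB 750 (fun i => frl_W2 (Nat.add 25500 i)) = true := by decide +kernel
theorem trc_W2_35 : allB 750 (fun i => frl_W2 (Nat.add 26250 i)) = true := by decide +kernel
theorem trc_W2_36 : allB 750 (fun i => frl_W2 (Nat.add 27000 i)) = true := by decide +kernel
theorem trc_W2_37 : allB 750 (fun i => frl_W2 (Nat.add 27750 i)) = true := by decide +kernel
theorem trc_W2_38 : allB 750 (fun i => frl_W2 (Nat.add 28500 i)) = true := by decide +kernel
theorem trc_W2_39 : allB 750 (fun i => frl_W2 (Nat.add 29250 i)) = true := by decide +kernel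
theorem trc_W2_40 : allB 750 (fun i => frl_W2 (Nat.add 30000 i)) = true := by decide +kernel

end Cfsg.Agent.Lib.Helper5.SuzCov
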