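import Cfsg.Agent.Lib.Helper5.SuzCov.Frl

/-! # The sixfold cover of `Suz`: relators traced on the first rows of the blocks (kernel checks by ranges of blocks, part 13) -/

set_option autoImplicit false
set_option maxRecDepth 1000000

namespace Cfsg.Agent.Lib.Helper5.SuzCov

open Cfsg.Agent.PG (allB allB_iff)

theorem trc_W2_41 : allB 750 (fun i => frl_W2 (Nat.add 30750 i)) = true := by decide +kernel
theorem trc_W2_42 : allB 750 (fun i => frl_W2 (Nat.add 31500 i)) = true := by decide +kernel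
theorem trc_W2_43 : allB 510 (fun i => frl_W2 (Nat.add 32250 i)) = true := by decide +kernel
theorem trc_X3X3i_0 : allB 7500 (fun i => frl_X3X3i (Nat.add 0 i)) = true := by decide +kernel
theorem trc_X3X3i_1 : allB 7500 (fun i => frl_X3X3i (Nat.add 7500 i)) = true := by decide +kernel
theorem trc_X3X3i_2 : allB 7500 (fun i => frl_X3X3i (Nat.add 15000 i)) = true := by decide +kernel
theorem trc_X3X3i_3 : allB 7500 (fun i => frl_X3X3i (Nat.add 22500 i)) = true := by decide +kernel
theorem trc_X3X3i_4 : allB 2760 (fun i => frl_X3X3i (Nat.add 30000 i)) = true := by decide +kernel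
theorem trc_Y3Y3i_0 : allB 1071 (fun i => frl_Y3Y3i (Nat.add 0 i)) = true := by decide +kernel
theorem trc_Y3Y3i_1 : allB 1071 (fun i => frl_Y3Y3i (Nat.add 1071 i)) = true := by decide +kernel
theorem trc_Y3Y3i_2 : allB 1071 (fun i => frl_Y3Y3i (Nat.add 2142 i)) = true := by decide +kernel
theorem trc_Y3Y3i_3 : allB 1071 (fun i => frl_Y3Y3i (Nat.add 3213 i)) = true := by decide +kernel
theorem trc_Y3Y3i_4 : allB 1071 (fun i => frl_Y3Y3i (Nat.add 4284 i)) = true := by decide +kernel
theorem trc_Y3Y3i_5 : allB 1071 (fun i => frl_Y3Y3i (Nat.add 5355 i)) = true := by decide +kernel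
theorem trc_Y3Y3i_6 : allB 1071 (fun i => frl_Y3Y3i (Nat.add 6426 i)) = true := by decide +kernel
theorem trc_Y3Y3i_7 : allB 1071 (fun i => frl_Y3Y3i (Nat.add 7497 i)) = true := by decide +kernel
theorem trc_Y3Y3i_8 : allB 1071 (fun i => frl_Y3Y3i (Nat.add 8568 i)) = true := by decide +kernel
theorem trc_Y3Y3i_9 : allB 1071 (fun i => frl_Y3Y3i (Nat.add 9639 i)) = true := by decide +kernel
theorem trc_Y3Y3i_10 : allB 1071 (fun i => frl_Y3Y3i (Nat.add 10710 i)) = true := by decide +kernel
theorem trc_Y3Y3i_11 : allB 1071 (fun i => frl_Y3Y3i (Nat.add 11781 i)) = true := by decide +kernel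
theorem trc_Y3Y3i_12 : allB 1071 (fun i => frl_Y3Y3i (Nat.add 12852 i)) = true := by decide +kernel
theorem trc_Y3Y3i_13 : allB 1071 (fun i => frl_Y3Y3i (Nat.add 13923 i)) = true := by decide +kernel
theorem trc_Y3Y3i_14 : allB 1071 (fun i => frl_Y3Y3i (Nat.add 14994 i)) = true := by decide +kernel
theorem trc_Y3Y3i_15 : allB 1071 (fun i => frl_Y3Y3i (Nat.add 16065 i)) = true := by decide +kernel
theorem trc_Y3Y3i_16 : allB 1071 (fun i => frl_Y3Y3i (Nat.add 17136 i)) = true := by decide +kernel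
theorem trc_Y3Y3i_17 : allB 1071 (fun i => frl_Y3Y3i (Nat.add 18207 i)) = true := by decide +kernel
theorem trc_Y3Y3i_18 : allB 1071 (fun i => frl_Y3Y3i (Nat.add 19278 i)) = true := by decide +kernel
theorem trc_Y3Y3i_19 : allB 1071 (fun i => frl_Y3Y3i (Nat.add 20349 i)) = true := by decide +kernel
theorem trc_Y3Y3i_20 : allB 1071 (fun i => frl_Y3Y3i (Nat.add 21420 i)) = true := by decide +kernel
theorem trc_Y3Y3i_21 : allB 1071 (fun i => frl_Y3Y3i (Nat.add 22491 i)) = true := by decide +kernel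
theorem trc_Y3Y3i_22 : allB 1071 (fun i => frl_Y3Y3i (Nat.add 23562 i)) = true := by decide +kernel
theorem trc_Y3Y3i_23 : allB 1071 (fun i => frl_Y3Y3i (Nat.add 24633 i)) = true := by decide +kernel
theorem trc_Y3Y3i_24 : allB 1071 (fun i => frl_Y3Y3i (Nat.add 25704 i)) = true := by decide +kernel
theorem trc_Y3Y3i_25 : allB 1071 (fun i => frl_Y3Y3i (Nat.add 26775 i)) = true := by decide +kernel
theorem trc_Y3Y3i_26 : allB 1071 (fun i => frl_Y3Y3i (Nat.add 27846 i)) = true := by decide +kernel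
theorem trc_Y3Y3i_27 : allB 1071 (fun i => frl_Y3Y3i (Nat.add 28917 i)) = true := by decide +kernel
theorem trc_Y3Y3i_28 : allB 1071 (fun i => frl_Y3Y3i (Nat.add 29988 i)) = true := by decide +kernel
theorem trc_Y3Y3i_29 : allB 1071 (fun i => frl_Y3Y3i (Nat.add 31059 i)) = true := by decide +kernel
theorem trc_Y3Y3i_30 : allB 630 (fun i => frl_Y3Y3i (Nat.add 32130 i)) = true := by decide +kernel
theorem trc_W3_0 : allB 937 (fun i => frl_W3 (Nat.add 0 i)) = true := by decide +kernel

end Cfsg.Agent.Lib.Helper5.SuzCov
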