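import Cfsg.Agent.Lib.Helper5.SuzCov.Frl

/-! # The sixfold cover of `Suz`: relators traced on the first rows of the blocks (kernel checks by ranges of blocks, part 14) -/

set_option autoImplicit false
set_option maxRecDepth 1000000

namespace Cfsg.Agent.Lib.Helper5.SuzCov

open Cfsg.Agent.PG (allB allB_iff)

theorem trc_W3_1 : allB 937 (fun i => frl_W3 (Nat.add 937 i)) = true := by decide +kernel
theorem trc_W3_2 : allB 937 (fun i => frl_W3 (Nat.add 1874 i)) = true := by decide +kernel
theorem trc_W3_3 : allB 937 (fun i => frl_W3 (Nat.add 2811 i)) = true := by decide +kernel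
theorem trc_W3_4 : allB 937 (fun i => frl_W3 (Nat.add 3748 i)) = true := by decide +kernel
theorem trc_W3_5 : allB 937 (fun i => frl_W3 (Nat.add 4685 i)) = true := by decide +kernel
theorem trc_W3_6 : allB 937 (fun i => frl_W3 (Nat.add 5622 i)) = true := by decide +kernel
theorem trc_W3_7 : allB 937 (fun i => frl_W3 (Nat.add 6559 i)) = true := by decide +kernel
theorem trc_W3_8 : allB 937 (fun i => frl_W3 (Nat.add 7496 i)) = true := by decide +kernel
theorem trc_W3_9 : allB 937 (fun i => frl_W3 (Nat.add 8433 i)) = true := by decide +kernel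
theorem trc_W3_10 : allB 937 (fun i => frl_W3 (Nat.add 9370 i)) = true := by decide +kernel
theorem trc_W3_11 : allB 937 (fun i => frl_W3 (Nat.add 10307 i)) = true := by decide +kernel
theorem trc_W3_12 : allB 937 (fun i => frl_W3 (Nat.add 11244 i)) = true := by decide +kernel
theorem trc_W3_13 : allB 937 (fun i => frl_W3 (Nat.add 12181 i)) = true := by decide +kernel
theorem trc_W3_14 : allB 937 (fun i => frl_W3 (Nat.add 13118 i)) = true := by decide +kernel
theorem trc_W3_15 : allB 937 (fun i => frl_W3 (Nat.add 14055 i)) = true := by decide +kernel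
theorem trc_W3_16 : allB 937 (fun i => frl_W3 (Nat.add 14992 i)) = true := by decide +kernel
theorem trc_W3_17 : allB 937 (fun i => frl_W3 (Nat.add 15929 i)) = true := by decide +kernel
theorem trc_W3_18 : allB 937 (fun i => frl_W3 (Nat.add 16866 i)) = true := by decide +kernel
theorem trc_W3_19 : allB 937 (fun i => frl_W3 (Nat.add 17803 i)) = true := by decide +kernel
theorem trc_W3_20 : allB 937 (fun i => frl_W3 (Nat.add 18740 i)) = true := by decide +kernel
theorem trc_W3_21 : allB 937 (fun i => frl_W3 (Nat.add 19677 i)) = true := by decide +kernel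
theorem trc_W3_22 : allB 937 (fun i => frl_W3 (Nat.add 20614 i)) = true := by decide +kernel
theorem trc_W3_23 : allB 937 (fun i => frl_W3 (Nat.add 21551 i)) = true := by decide +kernel
theorem trc_W3_24 : allB 937 (fun i => frl_W3 (Nat.add 22488 i)) = true := by decide +kernel
theorem trc_W3_25 : allB 937 (fun i => frl_W3 (Nat.add 23425 i)) = true := by decide +kernel
theorem trc_W3_26 : allB 937 (fun i => frl_W3 (Nat.add 24362 i)) = true := by decide +kernel
theorem trc_W3_27 : allB 937 (fun i => frl_W3 (Nat.add 25299 i)) = true := by decide +kernel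
theorem trc_W3_28 : allB 937 (fun i => frl_W3 (Nat.add 26236 i)) = true := by decide +kernel
theorem trc_W3_29 : allB 937 (fun i => frl_W3 (Nat.add 27173 i)) = true := by decide +kernel
theorem trc_W3_30 : allB 937 (fun i => frl_W3 (Nat.add 28110 i)) = true := by decide +kernel
theorem trc_W3_31 : allB 937 (fun i => frl_W3 (Nat.add 29047 i)) = true := by decide +kernel
theorem trc_W3_32 : allB 937 (fun i => frl_W3 (Nat.add 29984 i)) = true := by decide +kernel
theorem trc_W3_33 : allB 937 (fun i => frl_W3 (Nat.add 30921 i)) = true := by decide +kernel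
theorem trc_W3_34 : allB 902 (fun i => frl_W3 (Nat.add 31858 i)) = true := by decide +kernel

end Cfsg.Agent.Lib.Helper5.SuzCov
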