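import Cfsg.Agent.Lib.Helper5.SuzCov.Frl

/-! # The sixfold cover of `Suz`: relators traced on the first rows of the blocks (kernel checks by ranges of blocks, part 2) -/

set_option autoImplicit false
set_option maxRecDepth 1000000

namespace Cfsg.Agent.Lib.Helper5.SuzCov

open Cfsg.Agent.PG (allB allB_iff)

theorem trc_r13_3 : allB 5000 (fun i => frl_r13 (Nat.add 15000 i)) = true := by decide +kernel
theorem trc_r13_4 : allB 5000 (fun i => frl_r13 (Nat.add 20000 i)) = true := by decide +kernel
theorem trc_r13_5 : allB 5000 (fun i => frl_r13 (Nat.add 25000 i)) = true := by decide +kernel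
theorem trc_r13_6 : allB 2760 (fun i => frl_r13 (Nat.add 30000 i)) = true := by decide +kernel
theorem trc_r14_0 : allB 7500 (fun i => frl_r14 (Nat.add 0 i)) = true := by decide +kernel
theorem trc_r14_1 : allB 7500 (fun i => frl_r14 (Nat.add 7500 i)) = true := by decide +kernel
theorem trc_r14_2 : allB 7500 (fun i => frl_r14 (Nat.add 15000 i)) = true := by decide +kernel
theorem trc_r14_3 : allB 7500 (fun i => frl_r14 (Nat.add 22500 i)) = true := by decide +kernel
theorem trc_r14_4 : allB 2760 (fun i => frl_r14 (Nat.add 30000 i)) = true := by decide +kernel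
theorem trc_r15_0 : allB 5000 (fun i => frl_r15 (Nat.add 0 i)) = true := by decide +kernel
theorem trc_r15_1 : allB 5000 (fun i => frl_r15 (Nat.add 5000 i)) = true := by decide +kernel
theorem trc_r15_2 : allB 5000 (fun i => frl_r15 (Nat.add 10000 i)) = true := by decide +kernel
theorem trc_r15_3 : allB 5000 (fun i => frl_r15 (Nat.add 15000 i)) = true := by decide +kernel
theorem trc_r15_4 : allB 5000 (fun i => frl_r15 (Nat.add 20000 i)) = true := by decide +kernel
theorem trc_r15_5 : allB 5000 (fun i => frl_r15 (Nat.add 25000 i)) = true := by decide +kernel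
theorem trc_r15_6 : allB 2760 (fun i => frl_r15 (Nat.add 30000 i)) = true := by decide +kernel
theorem trc_r16_0 : allB 15000 (fun i => frl_r16 (Nat.add 0 i)) = true := by decide +kernel
theorem trc_r16_1 : allB 15000 (fun i => frl_r16 (Nat.add 15000 i)) = true := by decide +kernel
theorem trc_r16_2 : allB 2760 (fun i => frl_r16 (Nat.add 30000 i)) = true := by decide +kernel
theorem trc_r17_0 : allB 1875 (fun i => frl_r17 (Nat.add 0 i)) = true := by decide +kernel
theorem trc_r17_1 : allB 1875 (fun i => frl_r17 (Nat.add 1875 i)) = true := by decide +kernel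
theorem trc_r17_2 : allB 1875 (fun i => frl_r17 (Nat.add 3750 i)) = true := by decide +kernel
theorem trc_r17_3 : allB 1875 (fun i => frl_r17 (Nat.add 5625 i)) = true := by decide +kernel
theorem trc_r17_4 : allB 1875 (fun i => frl_r17 (Nat.add 7500 i)) = true := by decide +kernel
theorem trc_r17_5 : allB 1875 (fun i => frl_r17 (Nat.add 9375 i)) = true := by decide +kernel
theorem trc_r17_6 : allB 1875 (fun i => frl_r17 (Nat.add 11250 i)) = true := by decide +kernel
theorem trc_r17_7 : allB 1875 (fun i => frl_r17 (Nat.add 13125 i)) = true := by decide +kernel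
theorem trc_r17_8 : allB 1875 (fun i => frl_r17 (Nat.add 15000 i)) = true := by decide +kernel
theorem trc_r17_9 : allB 1875 (fun i => frl_r17 (Nat.add 16875 i)) = true := by decide +kernel
theorem trc_r17_10 : allB 1875 (fun i => frl_r17 (Nat.add 18750 i)) = true := by decide +kernel
theorem trc_r17_11 : allB 1875 (fun i => frl_r17 (Nat.add 20625 i)) = true := by decide +kernel
theorem trc_r17_12 : allB 1875 (fun i => frl_r17 (Nat.add 22500 i)) = true := by decide +kernel
theorem trc_r17_13 : allB 1875 (fun i => frl_r17 (Nat.add 24375 i)) = true := by decide +kernel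
theorem trc_r17_14 : allB 1875 (fun i => frl_r17 (Nat.add 26250 i)) = true := by decide +kernel
theorem trc_r17_15 : allB 1875 (fun i => frl_r17 (Nat.add 28125 i)) = true := by decide +kernel
theorem trc_r17_16 : allB 1875 (fun i => frl_r17 (Nat.add 30000 i)) = true := by decide +kernel
theorem trc_r17_17 : allB 885 (fun i => frl_r17 (Nat.add 31875 i)) = true := by decide +kernel
theorem trc_r18_0 : allB 7500 (fun i => frl_r18 (Nat.add 0 i)) = true := by decide +kernel
theorem trc_r18_1 : allB 7500 (fun i => frl_r18 (Nat.add 7500 i)) = true := by decide +kernel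
theorem trc_r18_2 : allB 7500 (fun i => frl_r18 (Nat.add 15000 i)) = true := by decide +kernel

end Cfsg.Agent.Lib.Helper5.SuzCov
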