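import Cfsg.Agent.Lib.Helper5.SuzCov.Frl

/-! # The sixfold cover of `Suz`: relators traced on the first rows of the blocks (kernel checks by ranges of blocks, part 3) -/

set_option autoImplicit false
set_option maxRecDepth 1000000

namespace Cfsg.Agent.Lib.Helper5.SuzCov

open Cfsg.Agent.PG (allB allB_iff)

theorem trc_r18_3 : allB 7500 (fun i => frl_r18 (Nat.add 22500 i)) = true := by decide +kernel
theorem trc_r18_4 : allB 2760 (fun i => frl_r18 (Nat.add 30000 i)) = true := by decide +kernel
theorem trc_r19_0 : allB 7500 (fun i => frl_r19 (Nat.add 0 i)) = true := by decide +kernel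
theorem trc_r19_1 : allB 7500 (fun i => frl_r19 (Nat.add 7500 i)) = true := by decide +kernel
theorem trc_r19_2 : allB 7500 (fun i => frl_r19 (Nat.add 15000 i)) = true := by decide +kernel
theorem trc_r19_3 : allB 7500 (fun i => frl_r19 (Nat.add 22500 i)) = true := by decide +kernel
theorem trc_r19_4 : allB 2760 (fun i => frl_r19 (Nat.add 30000 i)) = true := by decide +kernel
theorem trc_r20_0 : allB 7500 (fun i => frl_r20 (Nat.add 0 i)) = true := by decide +kernel
theorem trc_r20_1 : allB 7500 (fun i => frl_r20 (Nat.add 7500 i)) = true := by decide +kernel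
theorem trc_r20_2 : allB 7500 (fun i => frl_r20 (Nat.add 15000 i)) = true := by decide +kernel
theorem trc_r20_3 : allB 7500 (fun i => frl_r20 (Nat.add 22500 i)) = true := by decide +kernel
theorem trc_r20_4 : allB 2760 (fun i => frl_r20 (Nat.add 30000 i)) = true := by decide +kernel
theorem trc_r21_0 : allB 7500 (fun i => frl_r21 (Nat.add 0 i)) = true := by decide +kernel
theorem trc_r21_1 : allB 7500 (fun i => frl_r21 (Nat.add 7500 i)) = true := by decide +kernel
theorem trc_r21_2 : allB 7500 (fun i => frl_r21 (Nat.add 15000 i)) = true := by decide +kernel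
theorem trc_r21_3 : allB 7500 (fun i => frl_r21 (Nat.add 22500 i)) = true := by decide +kernel
theorem trc_r21_4 : allB 2760 (fun i => frl_r21 (Nat.add 30000 i)) = true := by decide +kernel
theorem trc_r22_0 : allB 7500 (fun i => frl_r22 (Nat.add 0 i)) = true := by decide +kernel
theorem trc_r22_1 : allB 7500 (fun i => frl_r22 (Nat.add 7500 i)) = true := by decide +kernel
theorem trc_r22_2 : allB 7500 (fun i => frl_r22 (Nat.add 15000 i)) = true := by decide +kernel
theorem trc_r22_3 : allB 7500 (fun i => frl_r22 (Nat.add 22500 i)) = true := by decide +kernel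
theorem trc_r22_4 : allB 2760 (fun i => frl_r22 (Nat.add 30000 i)) = true := by decide +kernel
theorem trc_r23_0 : allB 1875 (fun i => frl_r23 (Nat.add 0 i)) = true := by decide +kernel
theorem trc_r23_1 : allB 1875 (fun i => frl_r23 (Nat.add 1875 i)) = true := by decide +kernel
theorem trc_r23_2 : allB 1875 (fun i => frl_r23 (Nat.add 3750 i)) = true := by decide +kernel
theorem trc_r23_3 : allB 1875 (fun i => frl_r23 (Nat.add 5625 i)) = true := by decide +kernel
theorem trc_r23_4 : allB 1875 (fun i => frl_r23 (Nat.add 7500 i)) = true := by decide +kernel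
theorem trc_r23_5 : allB 1875 (fun i => frl_r23 (Nat.add 9375 i)) = true := by decide +kernel
theorem trc_r23_6 : allB 1875 (fun i => frl_r23 (Nat.add 11250 i)) = true := by decide +kernel
theorem trc_r23_7 : allB 1875 (fun i => frl_r23 (Nat.add 13125 i)) = true := by decide +kernel
theorem trc_r23_8 : allB 1875 (fun i => frl_r23 (Nat.add 15000 i)) = true := by decide +kernel
theorem trc_r23_9 : allB 1875 (fun i => frl_r23 (Nat.add 16875 i)) = true := by decide +kernel
theorem trc_r23_10 : allB 1875 (fun i => frl_r23 (Nat.add 18750 i)) = true := by decide +kernel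
theorem trc_r23_11 : allB 1875 (fun i => frl_r23 (Nat.add 20625 i)) = true := by decide +kernel
theorem trc_r23_12 : allB 1875 (fun i => frl_r23 (Nat.add 22500 i)) = true := by decide +kernel
theorem trc_r23_13 : allB 1875 (fun i => frl_r23 (Nat.add 24375 i)) = true := by decide +kernel
theorem trc_r23_14 : allB 1875 (fun i => frl_r23 (Nat.add 26250 i)) = true := by decide +kernel
theorem trc_r23_15 : allB 1875 (fun i => frl_r23 (Nat.add 28125 i)) = true := by decide +kernel
theorem trc_r23_16 : allB 1875 (fun i => frl_r23 (Nat.add 30000 i)) = true := by decide +kernel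
theorem trc_r23_17 : allB 885 (fun i => frl_r23 (Nat.add 31875 i)) = true := by decide +kernel

end Cfsg.Agent.Lib.Helper5.SuzCov
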