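import Cfsg.Agent.Lib.Helper5.SuzCov.Frl

/-! # The sixfold cover of `Suz`: relators traced on the first rows of the blocks (kernel checks by ranges of blocks, part 4) -/

set_option autoImplicit false
set_option maxRecDepth 1000000

namespace Cfsg.Agent.Lib.Helper5.SuzCov

open Cfsg.Agent.PG (allB allB_iff)

theorem trc_r24_0 : allB 15000 (fun i => frl_r24 (Nat.add 0 i)) = true := by decide +kernel
theorem trc_r24_1 : allB 15000 (fun i => frl_r24 (Nat.add 15000 i)) = true := by decide +kernel
theorem trc_r24_2 : allB 2760 (fun i => frl_r24 (Nat.add 30000 i)) = true := by decide +kernel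
theorem trc_r25_0 : allB 5000 (fun i => frl_r25 (Nat.add 0 i)) = true := by decide +kernel
theorem trc_r25_1 : allB 5000 (fun i => frl_r25 (Nat.add 5000 i)) = true := by decide +kernel
theorem trc_r25_2 : allB 5000 (fun i => frl_r25 (Nat.add 10000 i)) = true := by decide +kernel
theorem trc_r25_3 : allB 5000 (fun i => frl_r25 (Nat.add 15000 i)) = true := by decide +kernel
theorem trc_r25_4 : allB 5000 (fun i => frl_r25 (Nat.add 20000 i)) = true := by decide +kernel
theorem trc_r25_5 : allB 5000 (fun i => frl_r25 (Nat.add 25000 i)) = true := by decide +kernel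
theorem trc_r25_6 : allB 2760 (fun i => frl_r25 (Nat.add 30000 i)) = true := by decide +kernel
theorem trc_r26_0 : allB 7500 (fun i => frl_r26 (Nat.add 0 i)) = true := by decide +kernel
theorem trc_r26_1 : allB 7500 (fun i => frl_r26 (Nat.add 7500 i)) = true := by decide +kernel
theorem trc_r26_2 : allB 7500 (fun i => frl_r26 (Nat.add 15000 i)) = true := by decide +kernel
theorem trc_r26_3 : allB 7500 (fun i => frl_r26 (Nat.add 22500 i)) = true := by decide +kernel
theorem trc_r26_4 : allB 2760 (fun i => frl_r26 (Nat.add 30000 i)) = true := by decide +kernel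
theorem trc_r27_0 : allB 7500 (fun i => frl_r27 (Nat.add 0 i)) = true := by decide +kernel
theorem trc_r27_1 : allB 7500 (fun i => frl_r27 (Nat.add 7500 i)) = true := by decide +kernel
theorem trc_r27_2 : allB 7500 (fun i => frl_r27 (Nat.add 15000 i)) = true := by decide +kernel
theorem trc_r27_3 : allB 7500 (fun i => frl_r27 (Nat.add 22500 i)) = true := by decide +kernel
theorem trc_r27_4 : allB 2760 (fun i => frl_r27 (Nat.add 30000 i)) = true := by decide +kernel
theorem trc_r28_0 : allB 7500 (fun i => frl_r28 (Nat.add 0 i)) = true := by decide +kernel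
theorem trc_r28_1 : allB 7500 (fun i => frl_r28 (Nat.add 7500 i)) = true := by decide +kernel
theorem trc_r28_2 : allB 7500 (fun i => frl_r28 (Nat.add 15000 i)) = true := by decide +kernel
theorem trc_r28_3 : allB 7500 (fun i => frl_r28 (Nat.add 22500 i)) = true := by decide +kernel
theorem trc_r28_4 : allB 2760 (fun i => frl_r28 (Nat.add 30000 i)) = true := by decide +kernel
theorem trc_r29_0 : allB 7500 (fun i => frl_r29 (Nat.add 0 i)) = true := by decide +kernel
theorem trc_r29_1 : allB 7500 (fun i => frl_r29 (Nat.add 7500 i)) = true := by decide +kernel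
theorem trc_r29_2 : allB 7500 (fun i => frl_r29 (Nat.add 15000 i)) = true := by decide +kernel
theorem trc_r29_3 : allB 7500 (fun i => frl_r29 (Nat.add 22500 i)) = true := by decide +kernel
theorem trc_r29_4 : allB 2760 (fun i => frl_r29 (Nat.add 30000 i)) = true := by decide +kernel
theorem trc_r30_0 : allB 7500 (fun i => frl_r30 (Nat.add 0 i)) = true := by decide +kernel
theorem trc_r30_1 : allB 7500 (fun i => frl_r30 (Nat.add 7500 i)) = true := by decide +kernel
theorem trc_r30_2 : allB 7500 (fun i => frl_r30 (Nat.add 15000 i)) = true := by decide +kernel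
theorem trc_r30_3 : allB 7500 (fun i => frl_r30 (Nat.add 22500 i)) = true := by decide +kernel
theorem trc_r30_4 : allB 2760 (fun i => frl_r30 (Nat.add 30000 i)) = true := by decide +kernel
theorem trc_r31_0 : allB 5000 (fun i => frl_r31 (Nat.add 0 i)) = true := by decide +kernel
theorem trc_r31_1 : allB 5000 (fun i => frl_r31 (Nat.add 5000 i)) = true := by decide +kernel
theorem trc_r31_2 : allB 5000 (fun i => frl_r31 (Nat.add 10000 i)) = true := by decide +kernel
theorem trc_r31_3 : allB 5000 (fun i => frl_r31 (Nat.add 15000 i)) = true := by decide +kernel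
theorem trc_r31_4 : allB 5000 (fun i => frl_r31 (Nat.add 20000 i)) = true := by decide +kernel

end Cfsg.Agent.Lib.Helper5.SuzCov
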