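import Cfsg.Agent.Lib.Helper5.SuzCov.Frl

/-! # The sixfold cover of `Suz`: relators traced on the first rows of the blocks (kernel checks by ranges of blocks, part 5) -/

set_option autoImplicit false
set_option maxRecDepth 1000000

namespace Cfsg.Agent.Lib.Helper5.SuzCov

open Cfsg.Agent.PG (allB allB_iff)

theorem trc_r31_5 : allB 5000 (fun i => frl_r31 (Nat.add 25000 i)) = true := by decide +kernel
theorem trc_r31_6 : allB 2760 (fun i => frl_r31 (Nat.add 30000 i)) = true := by decide +kernel
theorem trc_r32_0 : allB 15000 (fun i => frl_r32 (Nat.add 0 i)) = true := by decide +kernel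
theorem trc_r32_1 : allB 15000 (fun i => frl_r32 (Nat.add 15000 i)) = true := by decide +kernel
theorem trc_r32_2 : allB 2760 (fun i => frl_r32 (Nat.add 30000 i)) = true := by decide +kernel
theorem trc_r33_0 : allB 7500 (fun i => frl_r33 (Nat.add 0 i)) = true := by decide +kernel
theorem trc_r33_1 : allB 7500 (fun i => frl_r33 (Nat.add 7500 i)) = true := by decide +kernel
theorem trc_r33_2 : allB 7500 (fun i => frl_r33 (Nat.add 15000 i)) = true := by decide +kernel
theorem trc_r33_3 : allB 7500 (fun i => frl_r33 (Nat.add 22500 i)) = true := by decide +kernel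
theorem trc_r33_4 : allB 2760 (fun i => frl_r33 (Nat.add 30000 i)) = true := by decide +kernel
theorem trc_r34_0 : allB 7500 (fun i => frl_r34 (Nat.add 0 i)) = true := by decide +kernel
theorem trc_r34_1 : allB 7500 (fun i => frl_r34 (Nat.add 7500 i)) = true := by decide +kernel
theorem trc_r34_2 : allB 7500 (fun i => frl_r34 (Nat.add 15000 i)) = true := by decide +kernel
theorem trc_r34_3 : allB 7500 (fun i => frl_r34 (Nat.add 22500 i)) = true := by decide +kernel
theorem trc_r34_4 : allB 2760 (fun i => frl_r34 (Nat.add 30000 i)) = true := by decide +kernel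
theorem trc_r35_0 : allB 7500 (fun i => frl_r35 (Nat.add 0 i)) = true := by decide +kernel
theorem trc_r35_1 : allB 7500 (fun i => frl_r35 (Nat.add 7500 i)) = true := by decide +kernel
theorem trc_r35_2 : allB 7500 (fun i => frl_r35 (Nat.add 15000 i)) = true := by decide +kernel
theorem trc_r35_3 : allB 7500 (fun i => frl_r35 (Nat.add 22500 i)) = true := by decide +kernel
theorem trc_r35_4 : allB 2760 (fun i => frl_r35 (Nat.add 30000 i)) = true := by decide +kernel
theorem trc_r36_0 : allB 5000 (fun i => frl_r36 (Nat.add 0 i)) = true := by decide +kernel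
theorem trc_r36_1 : allB 5000 (fun i => frl_r36 (Nat.add 5000 i)) = true := by decide +kernel
theorem trc_r36_2 : allB 5000 (fun i => frl_r36 (Nat.add 10000 i)) = true := by decide +kernel
theorem trc_r36_3 : allB 5000 (fun i => frl_r36 (Nat.add 15000 i)) = true := by decide +kernel
theorem trc_r36_4 : allB 5000 (fun i => frl_r36 (Nat.add 20000 i)) = true := by decide +kernel
theorem trc_r36_5 : allB 5000 (fun i => frl_r36 (Nat.add 25000 i)) = true := by decide +kernel
theorem trc_r36_6 : allB 2760 (fun i => frl_r36 (Nat.add 30000 i)) = true := by decide +kernel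
theorem trc_r37_0 : allB 7500 (fun i => frl_r37 (Nat.add 0 i)) = true := by decide +kernel
theorem trc_r37_1 : allB 7500 (fun i => frl_r37 (Nat.add 7500 i)) = true := by decide +kernel
theorem trc_r37_2 : allB 7500 (fun i => frl_r37 (Nat.add 15000 i)) = true := by decide +kernel
theorem trc_r37_3 : allB 7500 (fun i => frl_r37 (Nat.add 22500 i)) = true := by decide +kernel
theorem trc_r37_4 : allB 2760 (fun i => frl_r37 (Nat.add 30000 i)) = true := by decide +kernel
theorem trc_r38_0 : allB 7500 (fun i => frl_r38 (Nat.add 0 i)) = true := by decide +kernel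
theorem trc_r38_1 : allB 7500 (fun i => frl_r38 (Nat.add 7500 i)) = true := by decide +kernel
theorem trc_r38_2 : allB 7500 (fun i => frl_r38 (Nat.add 15000 i)) = true := by decide +kernel
theorem trc_r38_3 : allB 7500 (fun i => frl_r38 (Nat.add 22500 i)) = true := by decide +kernel
theorem trc_r38_4 : allB 2760 (fun i => frl_r38 (Nat.add 30000 i)) = true := by decide +kernel
theorem trc_r39_0 : allB 7500 (fun i => frl_r39 (Nat.add 0 i)) = true := by decide +kernel
theorem trc_r39_1 : allB 7500 (fun i => frl_r39 (Nat.add 7500 i)) = true := by decide +kernel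
theorem trc_r39_2 : allB 7500 (fun i => frl_r39 (Nat.add 15000 i)) = true := by decide +kernel

end Cfsg.Agent.Lib.Helper5.SuzCov
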