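import Cfsg.Agent.Lib.Helper5.SuzCov.Frl

/-! # The sixfold cover of `Suz`: relators traced on the first rows of the blocks (kernel checks by ranges of blocks, part 7) -/

set_option autoImplicit false
set_option maxRecDepth 1000000

namespace Cfsg.Agent.Lib.Helper5.SuzCov

open Cfsg.Agent.PG (allB allB_iff)

theorem trc_r46_4 : allB 2760 (fun i => frl_r46 (Nat.add 30000 i)) = true := by decide +kernel
theorem trc_r47_0 : allB 3750 (fun i => frl_r47 (Nat.add 0 i)) = true := by decide +kernel
theorem trc_r47_1 : allB 3750 (fun i => frl_r47 (Nat.add 3750 i)) = true := by decide +kernel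
theorem trc_r47_2 : allB 3750 (fun i => frl_r47 (Nat.add 7500 i)) = true := by decide +kernel
theorem trc_r47_3 : allB 3750 (fun i => frl_r47 (Nat.add 11250 i)) = true := by decide +kernel
theorem trc_r47_4 : allB 3750 (fun i => frl_r47 (Nat.add 15000 i)) = true := by decide +kernel
theorem trc_r47_5 : allB 3750 (fun i => frl_r47 (Nat.add 18750 i)) = true := by decide +kernel
theorem trc_r47_6 : allB 3750 (fun i => frl_r47 (Nat.add 22500 i)) = true := by decide +kernel
theorem trc_r47_7 : allB 3750 (fun i => frl_r47 (Nat.add 26250 i)) = true := by decide +kernel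
theorem trc_r47_8 : allB 2760 (fun i => frl_r47 (Nat.add 30000 i)) = true := by decide +kernel
theorem trc_r48_0 : allB 15000 (fun i => frl_r48 (Nat.add 0 i)) = true := by decide +kernel
theorem trc_r48_1 : allB 15000 (fun i => frl_r48 (Nat.add 15000 i)) = true := by decide +kernel
theorem trc_r48_2 : allB 2760 (fun i => frl_r48 (Nat.add 30000 i)) = true := by decide +kernel
theorem trc_r49_0 : allB 3333 (fun i => frl_r49 (Nat.add 0 i)) = true := by decide +kernel
theorem trc_r49_1 : allB 3333 (fun i => frl_r49 (Nat.add 3333 i)) = true := by decide +kernel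
theorem trc_r49_2 : allB 3333 (fun i => frl_r49 (Nat.add 6666 i)) = true := by decide +kernel
theorem trc_r49_3 : allB 3333 (fun i => frl_r49 (Nat.add 9999 i)) = true := by decide +kernel
theorem trc_r49_4 : allB 3333 (fun i => frl_r49 (Nat.add 13332 i)) = true := by decide +kernel
theorem trc_r49_5 : allB 3333 (fun i => frl_r49 (Nat.add 16665 i)) = true := by decide +kernel
theorem trc_r49_6 : allB 3333 (fun i => frl_r49 (Nat.add 19998 i)) = true := by decide +kernel
theorem trc_r49_7 : allB 3333 (fun i => frl_r49 (Nat.add 23331 i)) = true := by decide +kernel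
theorem trc_r49_8 : allB 3333 (fun i => frl_r49 (Nat.add 26664 i)) = true := by decide +kernel
theorem trc_r49_9 : allB 2763 (fun i => frl_r49 (Nat.add 29997 i)) = true := by decide +kernel
theorem trc_r50_0 : allB 6000 (fun i => frl_r50 (Nat.add 0 i)) = true := by decide +kernel
theorem trc_r50_1 : allB 6000 (fun i => frl_r50 (Nat.add 6000 i)) = true := by decide +kernel
theorem trc_r50_2 : allB 6000 (fun i => frl_r50 (Nat.add 12000 i)) = true := by decide +kernel
theorem trc_r50_3 : allB 6000 (fun i => frl_r50 (Nat.add 18000 i)) = true := by decide +kernel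
theorem trc_r50_4 : allB 6000 (fun i => frl_r50 (Nat.add 24000 i)) = true := by decide +kernel
theorem trc_r50_5 : allB 2760 (fun i => frl_r50 (Nat.add 30000 i)) = true := by decide +kernel
theorem trc_r51_0 : allB 1500 (fun i => frl_r51 (Nat.add 0 i)) = true := by decide +kernel
theorem trc_r51_1 : allB 1500 (fun i => frl_r51 (Nat.add 1500 i)) = true := by decide +kernel
theorem trc_r51_2 : allB 1500 (fun i => frl_r51 (Nat.add 3000 i)) = true := by decide +kernel
theorem trc_r51_3 : allB 1500 (fun i => frl_r51 (Nat.add 4500 i)) = true := by decide +kernel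
theorem trc_r51_4 : allB 1500 (fun i => frl_r51 (Nat.add 6000 i)) = true := by decide +kernel
theorem trc_r51_5 : allB 1500 (fun i => frl_r51 (Nat.add 7500 i)) = true := by decide +kernel
theorem trc_r51_6 : allB 1500 (fun i => frl_r51 (Nat.add 9000 i)) = true := by decide +kernel
theorem trc_r51_7 : allB 1500 (fun i => frl_r51 (Nat.add 10500 i)) = true := by decide +kernel
theorem trc_r51_8 : allB 1500 (fun i => frl_r51 (Nat.add 12000 i)) = true := by decide +kernel
theorem trc_r51_9 : allB 1500 (fun i => frl_r51 (Nat.add 13500 i)) = true := by decide +kernel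
theorem trc_r51_10 : allB 1500 (fun i => frl_r51 (Nat.add 15000 i)) = true := by decide +kernel

end Cfsg.Agent.Lib.Helper5.SuzCov
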