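import Cfsg.Agent.Lib.Helper5.SuzCov.Frl

/-! # The sixfold cover of `Suz`: relators traced on the first rows of the blocks (kernel checks by ranges of blocks, part 8) -/

set_option autoImplicit false
set_option maxRecDepth 1000000

namespace Cfsg.Agent.Lib.Helper5.SuzCov

open Cfsg.Agent.PG (allB allB_iff)

theorem trc_r51_11 : allB 1500 (fun i => frl_r51 (Nat.add 16500 i)) = true := by decide +kernel
theorem trc_r51_12 : allB 1500 (fun i => frl_r51 (Nat.add 18000 i)) = true := by decide +kernel
theorem trc_r51_13 : allB 1500 (fun i => frl_r51 (Nat.add 19500 i)) = true := by decide +kernel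
theorem trc_r51_14 : allB 1500 (fun i => frl_r51 (Nat.add 21000 i)) = true := by decide +kernel
theorem trc_r51_15 : allB 1500 (fun i => frl_r51 (Nat.add 22500 i)) = true := by decide +kernel
theorem trc_r51_16 : allB 1500 (fun i => frl_r51 (Nat.add 24000 i)) = true := by decide +kernel
theorem trc_r51_17 : allB 1500 (fun i => frl_r51 (Nat.add 25500 i)) = true := by decide +kernel
theorem trc_r51_18 : allB 1500 (fun i => frl_r51 (Nat.add 27000 i)) = true := by decide +kernel
theorem trc_r51_19 : allB 1500 (fun i => frl_r51 (Nat.add 28500 i)) = true := by decide +kernel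
theorem trc_r51_20 : allB 1500 (fun i => frl_r51 (Nat.add 30000 i)) = true := by decide +kernel
theorem trc_r51_21 : allB 1260 (fun i => frl_r51 (Nat.add 31500 i)) = true := by decide +kernel
theorem trc_r52_0 : allB 2000 (fun i => frl_r52 (Nat.add 0 i)) = true := by decide +kernel
theorem trc_r52_1 : allB 2000 (fun i => frl_r52 (Nat.add 2000 i)) = true := by decide +kernel
theorem trc_r52_2 : allB 2000 (fun i => frl_r52 (Nat.add 4000 i)) = true := by decide +kernel
theorem trc_r52_3 : allB 2000 (fun i => frl_r52 (Nat.add 6000 i)) = true := by decide +kernel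
theorem trc_r52_4 : allB 2000 (fun i => frl_r52 (Nat.add 8000 i)) = true := by decide +kernel
theorem trc_r52_5 : allB 2000 (fun i => frl_r52 (Nat.add 10000 i)) = true := by decide +kernel
theorem trc_r52_6 : allB 2000 (fun i => frl_r52 (Nat.add 12000 i)) = true := by decide +kernel
theorem trc_r52_7 : allB 2000 (fun i => frl_r52 (Nat.add 14000 i)) = true := by decide +kernel
theorem trc_r52_8 : allB 2000 (fun i => frl_r52 (Nat.add 16000 i)) = true := by decide +kernel
theorem trc_r52_9 : allB 2000 (fun i => frl_r52 (Nat.add 18000 i)) = true := by decide +kernel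
theorem trc_r52_10 : allB 2000 (fun i => frl_r52 (Nat.add 20000 i)) = true := by decide +kernel
theorem trc_r52_11 : allB 2000 (fun i => frl_r52 (Nat.add 22000 i)) = true := by decide +kernel
theorem trc_r52_12 : allB 2000 (fun i => frl_r52 (Nat.add 24000 i)) = true := by decide +kernel
theorem trc_r52_13 : allB 2000 (fun i => frl_r52 (Nat.add 26000 i)) = true := by decide +kernel
theorem trc_r52_14 : allB 2000 (fun i => frl_r52 (Nat.add 28000 i)) = true := by decide +kernel
theorem trc_r52_15 : allB 2000 (fun i => frl_r52 (Nat.add 30000 i)) = true := by decide +kernel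
theorem trc_r52_16 : allB 760 (fun i => frl_r52 (Nat.add 32000 i)) = true := by decide +kernel
theorem trc_r53_0 : allB 384 (fun i => frl_r53 (Nat.add 0 i)) = true := by decide +kernel
theorem trc_r53_1 : allB 384 (fun i => frl_r53 (Nat.add 384 i)) = true := by decide +kernel
theorem trc_r53_2 : allB 384 (fun i => frl_r53 (Nat.add 768 i)) = true := by decide +kernel
theorem trc_r53_3 : allB 384 (fun i => frl_r53 (Nat.add 1152 i)) = true := by decide +kernel
theorem trc_r53_4 : allB 384 (fun i => frl_r53 (Nat.add 1536 i)) = true := by decide +kernel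
theorem trc_r53_5 : allB 384 (fun i => frl_r53 (Nat.add 1920 i)) = true := by decide +kernel
theorem trc_r53_6 : allB 384 (fun i => frl_r53 (Nat.add 2304 i)) = true := by decide +kernel
theorem trc_r53_7 : allB 384 (fun i => frl_r53 (Nat.add 2688 i)) = true := by decide +kernel
theorem trc_r53_8 : allB 384 (fun i => frl_r53 (Nat.add 3072 i)) = true := by decide +kernel
theorem trc_r53_9 : allB 384 (fun i => frl_r53 (Nat.add 3456 i)) = true := by decide +kernel
theorem trc_r53_10 : allB 384 (fun i => frl_r53 (Nat.add 3840 i)) = true := by decide +kernel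
theorem trc_r53_11 : allB 384 (fun i => frl_r53 (Nat.add 4224 i)) = true := by decide +kernel

end Cfsg.Agent.Lib.Helper5.SuzCov
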