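import Cfsg.Agent.Lib.Helper5.SuzCov.Frl

/-! # The sixfold cover of `Suz`: relators traced on the first rows of the blocks (kernel checks by ranges of blocks, part 9) -/

set_option autoImplicit false
set_option maxRecDepth 1000000

namespace Cfsg.Agent.Lib.Helper5.SuzCov

open Cfsg.Agent.PG (allB allB_iff)

theorem trc_r53_12 : allB 384 (fun i => frl_r53 (Nat.add 4608 i)) = true := by decide +kernel
theorem trc_r53_13 : allB 384 (fun i => frl_r53 (Nat.add 4992 i)) = true := by decide +kernel
theorem trc_r53_14 : allB 384 (fun i => frl_r53 (Nat.add 5376 i)) = true := by decide +kernel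
theorem trc_r53_15 : allB 384 (fun i => frl_r53 (Nat.add 5760 i)) = true := by decide +kernel
theorem trc_r53_16 : allB 384 (fun i => frl_r53 (Nat.add 6144 i)) = true := by decide +kernel
theorem trc_r53_17 : allB 384 (fun i => frl_r53 (Nat.add 6528 i)) = true := by decide +kernel
theorem trc_r53_18 : allB 384 (fun i => frl_r53 (Nat.add 6912 i)) = true := by decide +kernel
theorem trc_r53_19 : allB 384 (fun i => frl_r53 (Nat.add 7296 i)) = true := by decide +kernel
theorem trc_r53_20 : allB 384 (fun i => frl_r53 (Nat.add 7680 i)) = true := by decide +kernel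
theorem trc_r53_21 : allB 384 (fun i => frl_r53 (Nat.add 8064 i)) = true := by decide +kernel
theorem trc_r53_22 : allB 384 (fun i => frl_r53 (Nat.add 8448 i)) = true := by decide +kernel
theorem trc_r53_23 : allB 384 (fun i => frl_r53 (Nat.add 8832 i)) = true := by decide +kernel
theorem trc_r53_24 : allB 384 (fun i => frl_r53 (Nat.add 9216 i)) = true := by decide +kernel
theorem trc_r53_25 : allB 384 (fun i => frl_r53 (Nat.add 9600 i)) = true := by decide +kernel
theorem trc_r53_26 : allB 384 (fun i => frl_r53 (Nat.add 9984 i)) = true := by decide +kernel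
theorem trc_r53_27 : allB 384 (fun i => frl_r53 (Nat.add 10368 i)) = true := by decide +kernel
theorem trc_r53_28 : allB 384 (fun i => frl_r53 (Nat.add 10752 i)) = true := by decide +kernel
theorem trc_r53_29 : allB 384 (fun i => frl_r53 (Nat.add 11136 i)) = true := by decide +kernel
theorem trc_r53_30 : allB 384 (fun i => frl_r53 (Nat.add 11520 i)) = true := by decide +kernel
theorem trc_r53_31 : allB 384 (fun i => frl_r53 (Nat.add 11904 i)) = true := by decide +kernel
theorem trc_r53_32 : allB 384 (fun i => frl_r53 (Nat.add 12288 i)) = true := by decide +kernel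
theorem trc_r53_33 : allB 384 (fun i => frl_r53 (Nat.add 12672 i)) = true := by decide +kernel
theorem trc_r53_34 : allB 384 (fun i => frl_r53 (Nat.add 13056 i)) = true := by decide +kernel
theorem trc_r53_35 : allB 384 (fun i => frl_r53 (Nat.add 13440 i)) = true := by decide +kernel
theorem trc_r53_36 : allB 384 (fun i => frl_r53 (Nat.add 13824 i)) = true := by decide +kernel
theorem trc_r53_37 : allB 384 (fun i => frl_r53 (Nat.add 14208 i)) = true := by decide +kernel
theorem trc_r53_38 : allB 384 (fun i => frl_r53 (Nat.add 14592 i)) = true := by decide +kernel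
theorem trc_r53_39 : allB 384 (fun i => frl_r53 (Nat.add 14976 i)) = true := by decide +kernel
theorem trc_r53_40 : allB 384 (fun i => frl_r53 (Nat.add 15360 i)) = true := by decide +kernel
theorem trc_r53_41 : allB 384 (fun i => frl_r53 (Nat.add 15744 i)) = true := by decide +kernel
theorem trc_r53_42 : allB 384 (fun i => frl_r53 (Nat.add 16128 i)) = true := by decide +kernel
theorem trc_r53_43 : allB 384 (fun i => frl_r53 (Nat.add 16512 i)) = true := by decide +kernel
theorem trc_r53_44 : allB 384 (fun i => frl_r53 (Nat.add 16896 i)) = true := by decide +kernel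
theorem trc_r53_45 : allB 384 (fun i => frl_r53 (Nat.add 17280 i)) = true := by decide +kernel
theorem trc_r53_46 : allB 384 (fun i => frl_r53 (Nat.add 17664 i)) = true := by decide +kernel
theorem trc_r53_47 : allB 384 (fun i => frl_r53 (Nat.add 18048 i)) = true := by decide +kernel
theorem trc_r53_48 : allB 384 (fun i => frl_r53 (Nat.add 18432 i)) = true := by decide +kernel
theorem trc_r53_49 : allB 384 (fun i => frl_r53 (Nat.add 18816 i)) = true := by decide +kernel
theorem trc_r53_50 : allB 384 (fun i => frl_r53 (Nat.add 19200 i)) = true := by decide +kernel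
theorem trc_r53_51 : allB 384 (fun i => frl_r53 (Nat.add 19584 i)) = true := by decide +kernel

end Cfsg.Agent.Lib.Helper5.SuzCov
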