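import Cfsg.Agent.Lib.Helper5.SuzCov.A
import Cfsg.Agent.Lib.Helper5.SuzCov.Tab0
import Cfsg.Agent.Lib.Helper5.SuzCov.Tab1
import Cfsg.Agent.Lib.Helper5.SuzCov.Tab2
import Cfsg.Agent.Lib.Helper5.SuzCov.Tab3
import Cfsg.Agent.Lib.Helper5.SuzCov.Tab4
import Cfsg.Agent.Lib.Helper5.SuzCov.Tab5
import Cfsg.Agent.Lib.Helper5.SuzCov.Tab6

/-! The sixfold cover of `Suz` (generated by a script): the tables of the seven generators, the relators of the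
presentation of `Suz` as words in the generators with the power of the rotation that each of them gives, and two pairs
of words whose commutators are the third and the fourth power of the rotation. -/

set_option autoImplicit false

namespace Cfsg.Agent.Lib.Helper5.SuzCov

/-- the table of a generator -/
noncomputable def tbS : ℕ → ℕ → ℕ
  | 0 => mt0
  | 1 => mt1
  | 2 => mt2
  | 3 => mt3
  | 4 => mt4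
  | 5 => mt5
  | _ => mt6

/-- the square of a generator is this power of the rotation -/
def ccS : ℕ → ℕ
  | 0 => 0
  | 1 => 0
  | 2 => 0
  | 3 => 3
  | 4 => 3
  | 5 => 0
  | _ => 0

/-- the relators: the Coxeter words of all ordered pairs of generators, then the five further relators -/
def relWords : List (List ℕ) := [
  [0, 0],
  [0, 1, 0, 1, 0, 1, 0, 1, 0, 1],
  [0, 2, 0, 2],
  [0, 3, 0, 3],
  [0, 4, 0, 4],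
  [0, 5, 0, 5],
  [0, 6, 0, 6],
  [1, 0, 1, 0, 1, 0, 1, 0, 1, 0],
  [1, 1],
  [1, 2, 1, 2, 1, 2],
  [1, 3, 1, 3],
  [1, 4, 1, 4],
  [1, 5, 1, 5, 1, 5],
  [1, 6, 1, 6, 1, 6],
  [2, 0, 2, 0],
  [2, 1, 2, 1, 2, 1],
  [2, 2],
  [2, 3, 2, 3, 2, 3, 2, 3, 2, 3, 2, 3, 2, 3, 2, 3],
  [2, 4, 2, 4],
  [2, 5, 2, 5],
  [2, 6, 2, 6],
  [3, 0, 3, 0],
  [3, 1, 3, 1],
  [3, 2, 3, 2, 3, 2, 3, 2, 3, 2, 3, 2, 3, 2, 3, 2],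
  [3, 3],
  [3, 4, 3, 4, 3, 4],
  [3, 5, 3, 5],
  [3, 6, 3, 6],
  [4, 0, 4, 0],
  [4, 1, 4, 1],
  [4, 2, 4, 2],
  [4, 3, 4, 3, 4, 3],
  [4, 4],
  [4, 5, 4, 5],
  [4, 6, 4, 6],
  [5, 0, 5, 0],
  [5, 1, 5, 1, 5, 1],
  [5, 2, 5, 2],
  [5, 3, 5, 3],
  [5, 4, 5, 4],
  [5, 5],
  [5, 6, 5, 6, 5, 6, 5, 6],
  [6, 0, 6, 0],
  [6, 1, 6, 1, 6, 1],
  [6, 2, 6, 2],
  [6, 3, 6, 3],
  [6, 4, 6, 4],
  [6, 5, 6, 5, 6, 5, 6, 5],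
  [6, 6],
  [0, 3, 2, 3, 2, 3, 2, 3, 2],
  [0, 6, 5, 6, 5],
  [0, 1, 2, 5, 0, 1, 2, 5, 0, 1, 2, 5, 0, 1, 2, 5, 0, 1, 2, 5],
  [1, 5, 6, 1, 5, 6, 1, 5, 6, 1, 5, 6, 1, 5, 6],
  [1, 2, 3, 2, 3, 1, 2, 3, 2, 3, 1, 2, 3, 2, 3, 1, 2, 3, 2, 3, 1, 2, 3, 2, 3, 4, 1, 2, 3, 2, 3, 1, 2, 3, 2, 3, 1, 2, 3, 2, 3, 1, 2, 3, 2, 3, 1, 2, 3, 2, 3, 4, 1, 2, 3, 2, 3, 1, 2, 3, 2, 3, 1, 2, 3, 2, 3, 1, 2, 3, 2, 3, 1, 2, 3, 2, 3, 4]]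

/-- the power of the rotation that a relator gives -/
def relCls : List ℕ := [0, 0, 0, 3, 3, 0, 0, 0, 0, 3, 3, 3, 0, 0, 0, 3, 0, 0, 3, 0, 0, 3, 3, 0, 3, 3, 3, 3, 3, 3, 3, 3, 3, 3, 3, 0, 0, 0, 3, 3, 0, 0, 0, 0, 0, 3, 3, 0, 0, 0, 0, 0, 4, 3]

/-- the words of the two commutators, with the words of their inverses -/
def wX2 : List ℕ := [3]
def wX2i : List ℕ := [3, 3, 3]
def wY2 : List ℕ := [2, 1, 6, 5, 4, 1, 2, 3, 2, 1, 4, 4, 4, 5, 6, 1, 2]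
def wY2i : List ℕ := [2, 1, 6, 5, 4, 1, 2, 3, 3, 3, 2, 1, 4, 4, 4, 5, 6, 1, 2]
def wX3 : List ℕ := [1, 5]
def wX3i : List ℕ := [5, 1]
def wY3 : List ℕ := [6, 1, 5, 0, 1, 0, 1, 5, 0, 1, 0, 5, 1, 6]
def wY3i : List ℕ := [6, 1, 5, 0, 1, 0, 5, 1, 0, 1, 0, 5, 1, 6]


end Cfsg.Agent.Lib.Helper5.SuzCov
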