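import Cfsg.Agent.Lib.Helper5.SuzCov.Data

/-! # The sixfold cover of `Suz`: the checks of the relators on the first row of a block, as nested applications of the
tables (generated by a script) -/

set_option autoImplicit false

namespace Cfsg.Agent.Lib.Helper5.SuzCov

/-- the check of a block for the relator `r0` -/
noncomputable def frl_r0 (a : ℕ) : Bool := Nat.beq (mact mt0 (mact mt0 (Nat.mul 6 a))) (Nat.add (Nat.mul 6 a) 0)

/-- the check of a block for the relator `r1` -/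
noncomputable def frl_r1 (a : ℕ) : Bool := Nat.beq (mact mt0 (mact mt1 (mact mt0 (mact mt1 (mact mt0 (mact mt1 (mact mt0 (mact mt1 (mact mt0 (mact mt1 (Nat.mul 6 a))))))))))) (Nat.add (Nat.mul 6 a) 0)

/-- the check of a block for the relator `r2` -/
noncomputable def frl_r2 (a : ℕ) : Bool := Nat.beq (mact mt0 (mact mt2 (mact mt0 (mact mt2 (Nat.mul 6 a))))) (Nat.add (Nat.mul 6 a) 0)

/-- the check of a block for the relator `r3` -/
noncomputable def frl_r3 (a : ℕ) : Bool := Nat.beq (mact mt0 (mact mt3 (mact mt0 (mact mt3 (Nat.mul 6 a))))) (Nat.add (Nat.mul 6 a) 3)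

/-- the check of a block for the relator `r4` -/
noncomputable def frl_r4 (a : ℕ) : Bool := Nat.beq (mact mt0 (mact mt4 (mact mt0 (mact mt4 (Nat.mul 6 a))))) (Nat.add (Nat.mul 6 a) 3)

/-- the check of a block for the relator `r5` -/
noncomputable def frl_r5 (a : ℕ) : Bool := Nat.beq (mact mt0 (mact mt5 (mact mt0 (mact mt5 (Nat.mul 6 a))))) (Nat.add (Nat.mul 6 a) 0)

/-- the check of a block for the relator `r6` -/
noncomputable def frl_r6 (a : ℕ) : Bool := Nat.beq (mact mt0 (mact mt6 (mact mt0 (mact mt6 (Nat.mul 6 a))))) (Nat.add (Nat.mul 6 a) 0)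

/-- the check of a block for the relator `r7` -/
noncomputable def frl_r7 (a : ℕ) : Bool := Nat.beq (mact mt1 (mact mt0 (mact mt1 (mact mt0 (mact mt1 (mact mt0 (mact mt1 (mact mt0 (mact mt1 (mact mt0 (Nat.mul 6 a))))))))))) (Nat.add (Nat.mul 6 a) 0)

/-- the check of a block for the relator `r8` -/
noncomputable def frl_r8 (a : ℕ) : Bool := Nat.beq (mact mt1 (mact mt1 (Nat.mul 6 a))) (Nat.add (Nat.mul 6 a) 0)

/-- the check of a block for the relator `r9` -/
noncomputable def frl_r9 (a : ℕ) : Bool := Nat.beq (mact mt1 (mact mt2 (mact mt1 (mact mt2 (mact mt1 (mact mt2 (Nat.mul 6 a))))))) (Nat.add (Nat.mul 6 a) 3)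

/-- the check of a block for the relator `r10` -/
noncomputable def frl_r10 (a : ℕ) : Bool := Nat.beq (mact mt1 (mact mt3 (mact mt1 (mact mt3 (Nat.mul 6 a))))) (Nat.add (Nat.mul 6 a) 3)

/-- the check of a block for the relator `r11` -/
noncomputable def frl_r11 (a : ℕ) : Bool := Nat.beq (mact mt1 (mact mt4 (mact mt1 (mact mt4 (Nat.mul 6 a))))) (Nat.add (Nat.mul 6 a) 3)

/-- the check of a block for the relator `r12` -/
noncomputable def frl_r12 (a : ℕ) : Bool := Nat.beq (mact mt1 (mact mt5 (mact mt1 (mact mt5 (mact mt1 (mact mt5 (Nat.mul 6 a))))))) (Nat.add (Nat.mul 6 a) 0)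

/-- the check of a block for the relator `r13` -/
noncomputable def frl_r13 (a : ℕ) : Bool := Nat.beq (mact mt1 (mact mt6 (mact mt1 (mact mt6 (mact mt1 (mact mt6 (Nat.mul 6 a))))))) (Nat.add (Nat.mul 6 a) 0)

/-- the check of a block for the relator `r14` -/
noncomputable def frl_r14 (a : ℕ) : Bool := Nat.beq (mact mt2 (mact mt0 (mact mt2 (mact mt0 (Nat.mul 6 a))))) (Nat.add (Nat.mul 6 a) 0)

/-- the check of a block for the relator `r15` -/
noncomputable def frl_r15 (a : ℕ) : Bool := Nat.beq (mact mt2 (mact mt1 (mact mt2 (mact mt1 (mact mt2 (mact mt1 (Nat.mul 6 a))))))) (Nat.add (Nat.mul 6 a) 3)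

/-- the check of a block for the relator `r16` -/
noncomputable def frl_r16 (a : ℕ) : Bool := Nat.beq (mact mt2 (mact mt2 (Nat.mul 6 a))) (Nat.add (Nat.mul 6 a) 0)

/-- the check of a block for the relator `r17` -/
noncomputable def frl_r17 (a : ℕ) : Bool := Nat.beq (mact mt2 (mact mt3 (mact mt2 (mact mt3 (mact mt2 (mact mt3 (mact mt2 (mact mt3 (mact mt2 (mact mt3 (mact mt2 (mact mt3 (mact mt2 (mact mt3 (mact mt2 (mact mt3 (Nat.mul 6 a))))))))))))))))) (Nat.add (Nat.mul 6 a) 0)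

/-- the check of a block for the relator `r18` -/
noncomputable def frl_r18 (a : ℕ) : Bool := Nat.beq (mact mt2 (mact mt4 (mact mt2 (mact mt4 (Nat.mul 6 a))))) (Nat.add (Nat.mul 6 a) 3)

/-- the check of a block for the relator `r19` -/
noncomputable def frl_r19 (a : ℕ) : Bool := Nat.beq (mact mt2 (mact mt5 (mact mt2 (mact mt5 (Nat.mul 6 a))))) (Nat.add (Nat.mul 6 a) 0)

/-- the check of a block for the relator `r20` -/
noncomputable def frl_r20 (a : ℕ) : Bool := Nat.beq (mact mt2 (mact mt6 (mact mt2 (mact mt6 (Nat.mul 6 a))))) (Nat.add (Nat.mul 6 a) 0)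

/-- the check of a block for the relator `r21` -/
noncomputable def frl_r21 (a : ℕ) : Bool := Nat.beq (mact mt3 (mact mt0 (mact mt3 (mact mt0 (Nat.mul 6 a))))) (Nat.add (Nat.mul 6 a) 3)

/-- the check of a block for the relator `r22` -/
noncomputable def frl_r22 (a : ℕ) : Bool := Nat.beq (mact mt3 (mact mt1 (mact mt3 (mact mt1 (Nat.mul 6 a))))) (Nat.add (Nat.mul 6 a) 3)

/-- the check of a block for the relator `r23` -/
noncomputable def frl_r23 (a : ℕ) : Bool := Nat.beq (mact mt3 (mact mt2 (mact mt3 (mact mt2 (mact mt3 (mact mt2 (mact mt3 (mact mt2 (mact mt3 (mact mt2 (mact mt3 (mact mt2 (mact mt3 (mact mt2 (mact mt3 (mact mt2 (Nat.mul 6 a))))))))))))))))) (Nat.add (Nat.mul 6 a) 0)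

/-- the check of a block for the relator `r24` -/
noncomputable def frl_r24 (a : ℕ) : Bool := Nat.beq (mact mt3 (mact mt3 (Nat.mul 6 a))) (Nat.add (Nat.mul 6 a) 3)

/-- the check of a block for the relator `r25` -/
noncomputable def frl_r25 (a : ℕ) : Bool := Nat.beq (mact mt3 (mact mt4 (mact mt3 (mact mt4 (mact mt3 (mact mt4 (Nat.mul 6 a))))))) (Nat.add (Nat.mul 6 a) 3)

/-- the check of a block for the relator `r26` -/
noncomputable def frl_r26 (a : ℕ) : Bool := Nat.beq (mact mt3 (mact mt5 (mact mt3 (mact mt5 (Nat.mul 6 a))))) (Nat.add (Nat.mul 6 a) 3)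

/-- the check of a block for the relator `r27` -/
noncomputable def frl_r27 (a : ℕ) : Bool := Nat.beq (mact mt3 (mact mt6 (mact mt3 (mact mt6 (Nat.mul 6 a))))) (Nat.add (Nat.mul 6 a) 3)

/-- the check of a block for the relator `r28` -/
noncomputable def frl_r28 (a : ℕ) : Bool := Nat.beq (mact mt4 (mact mt0 (mact mt4 (mact mt0 (Nat.mul 6 a))))) (Nat.add (Nat.mul 6 a) 3)

/-- the check of a block for the relator `r29` -/
noncomputable def frl_r29 (a : ℕ) : Bool := Nat.beq (mact mt4 (mact mt1 (mact mt4 (mact mt1 (Nat.mul 6 a))))) (Nat.add (Nat.mul 6 a) 3)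

/-- the check of a block for the relator `r30` -/
noncomputable def frl_r30 (a : ℕ) : Bool := Nat.beq (mact mt4 (mact mt2 (mact mt4 (mact mt2 (Nat.mul 6 a))))) (Nat.add (Nat.mul 6 a) 3)

/-- the check of a block for the relator `r31` -/
noncomputable def frl_r31 (a : ℕ) : Bool := Nat.beq (mact mt4 (mact mt3 (mact mt4 (mact mt3 (mact mt4 (mact mt3 (Nat.mul 6 a))))))) (Nat.add (Nat.mul 6 a) 3)

/-- the check of a block for the relator `r32` -/
noncomputable def frl_r32 (a : ℕ) : Bool := Nat.beq (mact mt4 (mact mt4 (Nat.mul 6 a))) (Nat.add (Nat.mul 6 a) 3)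

/-- the check of a block for the relator `r33` -/
noncomputable def frl_r33 (a : ℕ) : Bool := Nat.beq (mact mt4 (mact mt5 (mact mt4 (mact mt5 (Nat.mul 6 a))))) (Nat.add (Nat.mul 6 a) 3)

/-- the check of a block for the relator `r34` -/
noncomputable def frl_r34 (a : ℕ) : Bool := Nat.beq (mact mt4 (mact mt6 (mact mt4 (mact mt6 (Nat.mul 6 a))))) (Nat.add (Nat.mul 6 a) 3)

/-- the check of a block for the relator `r35` -/
noncomputable def frl_r35 (a : ℕ) : Bool := Nat.beq (mact mt5 (mact mt0 (mact mt5 (mact mt0 (Nat.mul 6 a))))) (Nat.add (Nat.mul 6 a) 0)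

/-- the check of a block for the relator `r36` -/
noncomputable def frl_r36 (a : ℕ) : Bool := Nat.beq (mact mt5 (mact mt1 (mact mt5 (mact mt1 (mact mt5 (mact mt1 (Nat.mul 6 a))))))) (Nat.add (Nat.mul 6 a) 0)

/-- the check of a block for the relator `r37` -/
noncomputable def frl_r37 (a : ℕ) : Bool := Nat.beq (mact mt5 (mact mt2 (mact mt5 (mact mt2 (Nat.mul 6 a))))) (Nat.add (Nat.mul 6 a) 0)

/-- the check of a block for the relator `r38` -/
noncomputable def frl_r38 (a : ℕ) : Bool := Nat.beq (mact mt5 (mact mt3 (mact mt5 (mact mt3 (Nat.mul 6 a))))) (Nat.add (Nat.mul 6 a) 3)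

/-- the check of a block for the relator `r39` -/
noncomputable def frl_r39 (a : ℕ) : Bool := Nat.beq (mact mt5 (mact mt4 (mact mt5 (mact mt4 (Nat.mul 6 a))))) (Nat.add (Nat.mul 6 a) 3)

/-- the check of a block for the relator `r40` -/
noncomputable def frl_r40 (a : ℕ) : Bool := Nat.beq (mact mt5 (mact mt5 (Nat.mul 6 a))) (Nat.add (Nat.mul 6 a) 0)

/-- the check of a block for the relator `r41` -/
noncomputable def frl_r41 (a : ℕ) : Bool := Nat.beq (mact mt5 (mact mt6 (mact mt5 (mact mt6 (mact mt5 (mact mt6 (mact mt5 (mact mt6 (Nat.mul 6 a))))))))) (Nat.add (Nat.mul 6 a) 0)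

/-- the check of a block for the relator `r42` -/
noncomputable def frl_r42 (a : ℕ) : Bool := Nat.beq (mact mt6 (mact mt0 (mact mt6 (mact mt0 (Nat.mul 6 a))))) (Nat.add (Nat.mul 6 a) 0)

/-- the check of a block for the relator `r43` -/
noncomputable def frl_r43 (a : ℕ) : Bool := Nat.beq (mact mt6 (mact mt1 (mact mt6 (mact mt1 (mact mt6 (mact mt1 (Nat.mul 6 a))))))) (Nat.add (Nat.mul 6 a) 0)

/-- the check of a block for the relator `r44` -/
noncomputable def frl_r44 (a : ℕ) : Bool := Nat.beq (mact mt6 (mact mt2 (mact mt6 (mact mt2 (Nat.mul 6 a))))) (Nat.add (Nat.mul 6 a) 0)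

/-- the check of a block for the relator `r45` -/
noncomputable def frl_r45 (a : ℕ) : Bool := Nat.beq (mact mt6 (mact mt3 (mact mt6 (mact mt3 (Nat.mul 6 a))))) (Nat.add (Nat.mul 6 a) 3)

/-- the check of a block for the relator `r46` -/
noncomputable def frl_r46 (a : ℕ) : Bool := Nat.beq (mact mt6 (mact mt4 (mact mt6 (mact mt4 (Nat.mul 6 a))))) (Nat.add (Nat.mul 6 a) 3)

/-- the check of a block for the relator `r47` -/
noncomputable def frl_r47 (a : ℕ) : Bool := Nat.beq (mact mt6 (mact mt5 (mact mt6 (mact mt5 (mact mt6 (mact mt5 (mact mt6 (mact mt5 (Nat.mul 6 a))))))))) (Nat.add (Nat.mul 6 a) 0)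

/-- the check of a block for the relator `r48` -/
noncomputable def frl_r48 (a : ℕ) : Bool := Nat.beq (mact mt6 (mact mt6 (Nat.mul 6 a))) (Nat.add (Nat.mul 6 a) 0)

/-- the check of a block for the relator `r49` -/
noncomputable def frl_r49 (a : ℕ) : Bool := Nat.beq (mact mt0 (mact mt3 (mact mt2 (mact mt3 (mact mt2 (mact mt3 (mact mt2 (mact mt3 (mact mt2 (Nat.mul 6 a)))))))))) (Nat.add (Nat.mul 6 a) 0)

/-- the check of a block for the relator `r50` -/
noncomputable def frl_r50 (a : ℕ) : Bool := Nat.beq (mact mt0 (mact mt6 (mact mt5 (mact mt6 (mact mt5 (Nat.mul 6 a)))))) (Nat.add (Nat.mul 6 a) 0)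

/-- the check of a block for the relator `r51` -/
noncomputable def frl_r51 (a : ℕ) : Bool := Nat.beq (mact mt0 (mact mt1 (mact mt2 (mact mt5 (mact mt0 (mact mt1 (mact mt2 (mact mt5 (mact mt0 (mact mt1 (mact mt2 (mact mt5 (mact mt0 (mact mt1 (mact mt2 (mact mt5 (mact mt0 (mact mt1 (mact mt2 (mact mt5 (Nat.mul 6 a))))))))))))))))))))) (Nat.add (Nat.mul 6 a) 0)

/-- the check of a block for the relator `r52` -/
noncomputable def frl_r52 (a : ℕ) : Bool := Nat.beq (mact mt1 (mact mt5 (mact mt6 (mact mt1 (mact mt5 (mact mt6 (mact mt1 (mact mt5 (mact mt6 (mact mt1 (mact mt5 (mact mt6 (mact mt1 (mact mt5 (mact mt6 (Nat.mul 6 a)))))))))))))))) (Nat.add (Nat.mul 6 a) 4)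

/-- the check of a block for the relator `r53` -/
noncomputable def frl_r53 (a : ℕ) : Bool := Nat.beq (mact mt1 (mact mt2 (mact mt3 (mact mt2 (mact mt3 (mact mt1 (mact mt2 (mact mt3 (mact mt2 (mact mt3 (mact mt1 (mact mt2 (mact mt3 (mact mt2 (mact mt3 (mact mt1 (mact mt2 (mact mt3 (mact mt2 (mact mt3 (mact mt1 (mact mt2 (mact mt3 (mact mt2 (mact mt3 (mact mt4 (mact mt1 (mact mt2 (mact mt3 (mact mt2 (mact mt3 (mact mt1 (mact mt2 (mact mt3 (mact mt2 (mact mt3 (mact mt1 (mact mt2 (mact mt3 (mact mt2 (mact mt3 (mact mt1 (mact mt2 (mact mt3 (mact mt2 (mact mt3 (mact mt1 (mact mt2 (mact mt3 (mact mt2 (mact mt3 (mact mt4 (mact mt1 (mact mt2 (mact mt3 (mact mt2 (mact mt3 (mact mt1 (mact mt2 (mact mt3 (mact mt2 (mact mt3 (mact mt1 (mact mt2 (mact mt3 (mact mt2 (mact mt3 (mact mt1 (mact mt2 (mact mt3 (mact mt2 (mact mt3 (mact mt1 (mact mt2 (mact mt3 (mact mt2 (mact mt3 (mact mt4 (Nat.mul 6 a)))))))))))))))))))))))))))))))))))))))))))))))))))))))))))))))))))))))))))))))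 (Nat.add (Nat.mul 6 a) 3)

/-- the check of a block for the relator `X2X2i` -/
noncomputable def frl_X2X2i (a : ℕ) : Bool := Nat.beq (mact mt3 (mact mt3 (mact mt3 (mact mt3 (Nat.mul 6 a))))) (Nat.add (Nat.mul 6 a) 0)

/-- the check of a block for the relator `Y2Y2i` -/
noncomputable def frl_Y2Y2i (a : ℕ) : Bool := Nat.beq (mact mt2 (mact mt1 (mact mt6 (mact mt5 (mact mt4 (mact mt1 (mact mt2 (mact mt3 (mact mt2 (mact mt1 (mact mt4 (mact mt4 (mact mt4 (mact mt5 (mact mt6 (mact mt1 (mact mt2 (mact mt2 (mact mt1 (mact mt6 (mact mt5 (mact mt4 (mact mt1 (mact mt2 (mact mt3 (mact mt3 (mact mt3 (mact mt2 (mact mt1 (mact mt4 (mact mt4 (mact mt4 (mact mt5 (mact mt6 (mact mt1 (mact mt2 (Nat.mul 6 a))))))))))))))))))))))))))))))))))))) (Nat.add (Nat.mul 6 a) 0)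

/-- the check of a block for the relator `W2` -/
noncomputable def frl_W2 (a : ℕ) : Bool := Nat.beq (mact mt3 (mact mt2 (mact mt1 (mact mt6 (mact mt5 (mact mt4 (mact mt1 (mact mt2 (mact mt3 (mact mt2 (mact mt1 (mact mt4 (mact mt4 (mact mt4 (mact mt5 (mact mt6 (mact mt1 (mact mt2 (mact mt3 (mact mt3 (mact mt3 (mact mt2 (mact mt1 (mact mt6 (mact mt5 (mact mt4 (mact mt1 (mact mt2 (mact mt3 (mact mt3 (mact mt3 (mact mt2 (mact mt1 (mact mt4 (mact mt4 (mact mt4 (mact mt5 (mact mt6 (mact mt1 (mact mt2 (Nat.mul 6 a))))))))))))))))))))))))))))))))))))))))) (Nat.add (Nat.mul 6 a) 3)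

/-- the check of a block for the relator `X3X3i` -/
noncomputable def frl_X3X3i (a : ℕ) : Bool := Nat.beq (mact mt1 (mact mt5 (mact mt5 (mact mt1 (Nat.mul 6 a))))) (Nat.add (Nat.mul 6 a) 0)

/-- the check of a block for the relator `Y3Y3i` -/
noncomputable def frl_Y3Y3i (a : ℕ) : Bool := Nat.beq (mact mt6 (mact mt1 (mact mt5 (mact mt0 (mact mt1 (mact mt0 (mact mt1 (mact mt5 (mact mt0 (mact mt1 (mact mt0 (mact mt5 (mact mt1 (mact mt6 (mact mt6 (mact mt1 (mact mt5 (mact mt0 (mact mt1 (mact mt0 (mact mt5 (mact mt1 (mact mt0 (mact mt1 (mact mt0 (mact mt5 (mact mt1 (mact mt6 (Nat.mul 6 a))))))))))))))))))))))))))))) (Nat.add (Nat.mul 6 a) 0)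

/-- the check of a block for the relator `W3` -/
noncomputable def frl_W3 (a : ℕ) : Bool := Nat.beq (mact mt1 (mact mt5 (mact mt6 (mact mt1 (mact mt5 (mact mt0 (mact mt1 (mact mt0 (mact mt1 (mact mt5 (mact mt0 (mact mt1 (mact mt0 (mact mt5 (mact mt1 (mact mt6 (mact mt5 (mact mt1 (mact mt6 (mact mt1 (mact mt5 (mact mt0 (mact mt1 (mact mt0 (mact mt5 (mact mt1 (mact mt0 (mact mt1 (mact mt0 (mact mt5 (mact mt1 (mact mt6 (Nat.mul 6 a))))))))))))))))))))))))))))))))) (Nat.add (Nat.mul 6 a) 4)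


end Cfsg.Agent.Lib.Helper5.SuzCov
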