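import Cfsg.Agent.Lib.Helper5.SuzCov.ChkR0
import Cfsg.Agent.Lib.Helper5.SuzCov.ChkR1
import Cfsg.Agent.Lib.Helper5.SuzCov.ChkR2
import Cfsg.Agent.Lib.Helper5.SuzCov.ChkR3
import Cfsg.Agent.Lib.Helper5.SuzCov.ChkR4
import Cfsg.Agent.Lib.Helper5.SuzCov.ChkR5
import Cfsg.Agent.Lib.Helper5.SuzCov.ChkR6
import Cfsg.Agent.Lib.Helper5.SuzCov.ChkR7
import Cfsg.Agent.Lib.Helper5.SuzCov.ChkR8
import Cfsg.Agent.Lib.Helper5.SuzCov.ChkR9
import Cfsg.Agent.Lib.Helper5.SuzCov.ChkR10
import Cfsg.Agent.Lib.Helper5.SuzCov.ChkR11
import Cfsg.Agent.Lib.Helper5.SuzCov.ChkR12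
import Cfsg.Agent.Lib.Helper5.SuzCov.ChkR13
import Cfsg.Agent.Lib.Helper5.SuzCov.ChkR14

/-! # The sixfold cover of `Suz`: the relators are powers of the rotation (the kernel checks by ranges of blocks, put
together) -/

set_option autoImplicit false
set_option maxRecDepth 1000000

namespace Cfsg.Agent.Lib.Helper5.SuzCov

open Cfsg.Agent.PG (allB allB_iff)

theorem trf_r0 : allB NB frl_r0 = true := by
  apply allB_iff.2
  intro a ha
  have ha' : a < 32760 := ha
  rcases Nat.lt_or_ge a 15000 with h0 | h0
  · exact allB_range (f := frl_r0) (lo := 0) (len := 15000) trc_r0_0 (by omega) (by omega)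
  rcases Nat.lt_or_ge a 30000 with h1 | h1
  · exact allB_range (f := frl_r0) (lo := 15000) (len := 15000) trc_r0_1 (by omega) (by omega)
  exact allB_range (f := frl_r0) (lo := 30000) (len := 2760) trc_r0_2 (by omega) (by omega)

theorem rel_r0 : relT tbS 0 (relWords.getD 0 []) = true := trf_r0

theorem trf_r1 : allB NB frl_r1 = true := by
  apply allB_iff.2
  intro a ha
  have ha' : a < 32760 := ha
  rcases Nat.lt_or_ge a 3000 with h0 | h0
  · exact allB_range (f := frl_r1) (lo := 0) (len := 3000) trc_r1_0 (by omega) (by omega)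
  rcases Nat.lt_or_ge a 6000 with h1 | h1
  · exact allB_range (f := frl_r1) (lo := 3000) (len := 3000) trc_r1_1 (by omega) (by omega)
  rcases Nat.lt_or_ge a 9000 with h2 | h2
  · exact allB_range (f := frl_r1) (lo := 6000) (len := 3000) trc_r1_2 (by omega) (by omega)
  rcases Nat.lt_or_ge a 12000 with h3 | h3
  · exact allB_range (f := frl_r1) (lo := 9000) (len := 3000) trc_r1_3 (by omega) (by omega)
  rcases Nat.lt_or_ge a 15000 with h4 | h4
  · exact allB_range (f := frl_r1) (lo := 12000) (len := 3000) trc_r1_4 (by omega) (by omega)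
  rcases Nat.lt_or_ge a 18000 with h5 | h5
  · exact allB_range (f := frl_r1) (lo := 15000) (len := 3000) trc_r1_5 (by omega) (by omega)
  rcases Nat.lt_or_ge a 21000 with h6 | h6
  · exact allB_range (f := frl_r1) (lo := 18000) (len := 3000) trc_r1_6 (by omega) (by omega)
  rcases Nat.lt_or_ge a 24000 with h7 | h7
  · exact allB_range (f := frl_r1) (lo := 21000) (len := 3000) trc_r1_7 (by omega) (by omega)
  rcases Nat.lt_or_ge a 27000 with h8 | h8
  · exact allB_range (f := frl_r1) (lo := 24000) (len := 3000) trc_r1_8 (by omega) (by omega)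
  rcases Nat.lt_or_ge a 30000 with h9 | h9
  · exact allB_range (f := frl_r1) (lo := 27000) (len := 3000) trc_r1_9 (by omega) (by omega)
  exact allB_range (f := frl_r1) (lo := 30000) (len := 2760) trc_r1_10 (by omega) (by omega)

theorem rel_r1 : relT tbS 0 (relWords.getD 1 []) = true := trf_r1

theorem trf_r2 : allB NB frl_r2 = true := by
  apply allB_iff.2
  intro a ha
  have ha' : a < 32760 := ha
  rcases Nat.lt_or_ge a 7500 with h0 | h0
  · exact allB_range (f := frl_r2) (lo := 0) (len := 7500) trc_r2_0 (by omega) (by omega)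
  rcases Nat.lt_or_ge a 15000 with h1 | h1
  · exact allB_range (f := frl_r2) (lo := 7500) (len := 7500) trc_r2_1 (by omega) (by omega)
  rcases Nat.lt_or_ge a 22500 with h2 | h2
  · exact allB_range (f := frl_r2) (lo := 15000) (len := 7500) trc_r2_2 (by omega) (by omega)
  rcases Nat.lt_or_ge a 30000 with h3 | h3
  · exact allB_range (f := frl_r2) (lo := 22500) (len := 7500) trc_r2_3 (by omega) (by omega)
  exact allB_range (f := frl_r2) (lo := 30000) (len := 2760) trc_r2_4 (by omega) (by omega)

theorem rel_r2 : relT tbS 0 (relWords.getD 2 []) = true := trf_r2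

theorem trf_r3 : allB NB frl_r3 = true := by
  apply allB_iff.2
  intro a ha
  have ha' : a < 32760 := ha
  rcases Nat.lt_or_ge a 7500 with h0 | h0
  · exact allB_range (f := frl_r3) (lo := 0) (len := 7500) trc_r3_0 (by omega) (by omega)
  rcases Nat.lt_or_ge a 15000 with h1 | h1
  · exact allB_range (f := frl_r3) (lo := 7500) (len := 7500) trc_r3_1 (by omega) (by omega)
  rcases Nat.lt_or_ge a 22500 with h2 | h2
  · exact allB_range (f := frl_r3) (lo := 15000) (len := 7500) trc_r3_2 (by omega) (by omega)
  rcases Nat.lt_or_ge a 30000 with h3 | h3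
  · exact allB_range (f := frl_r3) (lo := 22500) (len := 7500) trc_r3_3 (by omega) (by omega)
  exact allB_range (f := frl_r3) (lo := 30000) (len := 2760) trc_r3_4 (by omega) (by omega)

theorem rel_r3 : relT tbS 3 (relWords.getD 3 []) = true := trf_r3

theorem trf_r4 : allB NB frl_r4 = true := by
  apply allB_iff.2
  intro a ha
  have ha' : a < 32760 := ha
  rcases Nat.lt_or_ge a 7500 with h0 | h0
  · exact allB_range (f := frl_r4) (lo := 0) (len := 7500) trc_r4_0 (by omega) (by omega)
  rcases Nat.lt_or_ge a 15000 with h1 | h1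
  · exact allB_range (f := frl_r4) (lo := 7500) (len := 7500) trc_r4_1 (by omega) (by omega)
  rcases Nat.lt_or_ge a 22500 with h2 | h2
  · exact allB_range (f := frl_r4) (lo := 15000) (len := 7500) trc_r4_2 (by omega) (by omega)
  rcases Nat.lt_or_ge a 30000 with h3 | h3
  · exact allB_range (f := frl_r4) (lo := 22500) (len := 7500) trc_r4_3 (by omega) (by omega)
  exact allB_range (f := frl_r4) (lo := 30000) (len := 2760) trc_r4_4 (by omega) (by omega)

theorem rel_r4 : relT tbS 3 (relWords.getD 4 []) = true := trf_r4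

theorem trf_r5 : allB NB frl_r5 = true := by
  apply allB_iff.2
  intro a ha
  have ha' : a < 32760 := ha
  rcases Nat.lt_or_ge a 7500 with h0 | h0
  · exact allB_range (f := frl_r5) (lo := 0) (len := 7500) trc_r5_0 (by omega) (by omega)
  rcases Nat.lt_or_ge a 15000 with h1 | h1
  · exact allB_range (f := frl_r5) (lo := 7500) (len := 7500) trc_r5_1 (by omega) (by omega)
  rcases Nat.lt_or_ge a 22500 with h2 | h2
  · exact allB_range (f := frl_r5) (lo := 15000) (len := 7500) trc_r5_2 (by omega) (by omega)
  rcases Nat.lt_or_ge a 30000 with h3 | h3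
  · exact allB_range (f := frl_r5) (lo := 22500) (len := 7500) trc_r5_3 (by omega) (by omega)
  exact allB_range (f := frl_r5) (lo := 30000) (len := 2760) trc_r5_4 (by omega) (by omega)

theorem rel_r5 : relT tbS 0 (relWords.getD 5 []) = true := trf_r5

theorem trf_r6 : allB NB frl_r6 = true := by
  apply allB_iff.2
  intro a ha
  have ha' : a < 32760 := ha
  rcases Nat.lt_or_ge a 7500 with h0 | h0
  · exact allB_range (f := frl_r6) (lo := 0) (len := 7500) trc_r6_0 (by omega) (by omega)
  rcases Nat.lt_or_ge a 15000 with h1 | h1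
  · exact allB_range (f := frl_r6) (lo := 7500) (len := 7500) trc_r6_1 (by omega) (by omega)
  rcases Nat.lt_or_ge a 22500 with h2 | h2
  · exact allB_range (f := frl_r6) (lo := 15000) (len := 7500) trc_r6_2 (by omega) (by omega)
  rcases Nat.lt_or_ge a 30000 with h3 | h3
  · exact allB_range (f := frl_r6) (lo := 22500) (len := 7500) trc_r6_3 (by omega) (by omega)
  exact allB_range (f := frl_r6) (lo := 30000) (len := 2760) trc_r6_4 (by omega) (by omega)

theorem rel_r6 : relT tbS 0 (relWords.getD 6 []) = true := trf_r6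

theorem trf_r7 : allB NB frl_r7 = true := by
  apply allB_iff.2
  intro a ha
  have ha' : a < 32760 := ha
  rcases Nat.lt_or_ge a 3000 with h0 | h0
  · exact allB_range (f := frl_r7) (lo := 0) (len := 3000) trc_r7_0 (by omega) (by omega)
  rcases Nat.lt_or_ge a 6000 with h1 | h1
  · exact allB_range (f := frl_r7) (lo := 3000) (len := 3000) trc_r7_1 (by omega) (by omega)
  rcases Nat.lt_or_ge a 9000 with h2 | h2
  · exact allB_range (f := frl_r7) (lo := 6000) (len := 3000) trc_r7_2 (by omega) (by omega)
  rcases Nat.lt_or_ge a 12000 with h3 | h3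
  · exact allB_range (f := frl_r7) (lo := 9000) (len := 3000) trc_r7_3 (by omega) (by omega)
  rcases Nat.lt_or_ge a 15000 with h4 | h4
  · exact allB_range (f := frl_r7) (lo := 12000) (len := 3000) trc_r7_4 (by omega) (by omega)
  rcases Nat.lt_or_ge a 18000 with h5 | h5
  · exact allB_range (f := frl_r7) (lo := 15000) (len := 3000) trc_r7_5 (by omega) (by omega)
  rcases Nat.lt_or_ge a 21000 with h6 | h6
  · exact allB_range (f := frl_r7) (lo := 18000) (len := 3000) trc_r7_6 (by omega) (by omega)
  rcases Nat.lt_or_ge a 24000 with h7 | h7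
  · exact allB_range (f := frl_r7) (lo := 21000) (len := 3000) trc_r7_7 (by omega) (by omega)
  rcases Nat.lt_or_ge a 27000 with h8 | h8
  · exact allB_range (f := frl_r7) (lo := 24000) (len := 3000) trc_r7_8 (by omega) (by omega)
  rcases Nat.lt_or_ge a 30000 with h9 | h9
  · exact allB_range (f := frl_r7) (lo := 27000) (len := 3000) trc_r7_9 (by omega) (by omega)
  exact allB_range (f := frl_r7) (lo := 30000) (len := 2760) trc_r7_10 (by omega) (by omega)

theorem rel_r7 : relT tbS 0 (relWords.getD 7 []) = true := trf_r7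

theorem trf_r8 : allB NB frl_r8 = true := by
  apply allB_iff.2
  intro a ha
  have ha' : a < 32760 := ha
  rcases Nat.lt_or_ge a 15000 with h0 | h0
  · exact allB_range (f := frl_r8) (lo := 0) (len := 15000) trc_r8_0 (by omega) (by omega)
  rcases Nat.lt_or_ge a 30000 with h1 | h1
  · exact allB_range (f := frl_r8) (lo := 15000) (len := 15000) trc_r8_1 (by omega) (by omega)
  exact allB_range (f := frl_r8) (lo := 30000) (len := 2760) trc_r8_2 (by omega) (by omega)

theorem rel_r8 : relT tbS 0 (relWords.getD 8 []) = true := trf_r8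

theorem trf_r9 : allB NB frl_r9 = true := by
  apply allB_iff.2
  intro a ha
  have ha' : a < 32760 := ha
  rcases Nat.lt_or_ge a 5000 with h0 | h0
  · exact allB_range (f := frl_r9) (lo := 0) (len := 5000) trc_r9_0 (by omega) (by omega)
  rcases Nat.lt_or_ge a 10000 with h1 | h1
  · exact allB_range (f := frl_r9) (lo := 5000) (len := 5000) trc_r9_1 (by omega) (by omega)
  rcases Nat.lt_or_ge a 15000 with h2 | h2
  · exact allB_range (f := frl_r9) (lo := 10000) (len := 5000) trc_r9_2 (by omega) (by omega)
  rcases Nat.lt_or_ge a 20000 with h3 | h3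
  · exact allB_range (f := frl_r9) (lo := 15000) (len := 5000) trc_r9_3 (by omega) (by omega)
  rcases Nat.lt_or_ge a 25000 with h4 | h4
  · exact allB_range (f := frl_r9) (lo := 20000) (len := 5000) trc_r9_4 (by omega) (by omega)
  rcases Nat.lt_or_ge a 30000 with h5 | h5
  · exact allB_range (f := frl_r9) (lo := 25000) (len := 5000) trc_r9_5 (by omega) (by omega)
  exact allB_range (f := frl_r9) (lo := 30000) (len := 2760) trc_r9_6 (by omega) (by omega)

theorem rel_r9 : relT tbS 3 (relWords.getD 9 []) = true := trf_r9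

theorem trf_r10 : allB NB frl_r10 = true := by
  apply allB_iff.2
  intro a ha
  have ha' : a < 32760 := ha
  rcases Nat.lt_or_ge a 7500 with h0 | h0
  · exact allB_range (f := frl_r10) (lo := 0) (len := 7500) trc_r10_0 (by omega) (by omega)
  rcases Nat.lt_or_ge a 15000 with h1 | h1
  · exact allB_range (f := frl_r10) (lo := 7500) (len := 7500) trc_r10_1 (by omega) (by omega)
  rcases Nat.lt_or_ge a 22500 with h2 | h2
  · exact allB_range (f := frl_r10) (lo := 15000) (len := 7500) trc_r10_2 (by omega) (by omega)
  rcases Nat.lt_or_ge a 30000 with h3 | h3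
  · exact allB_range (f := frl_r10) (lo := 22500) (len := 7500) trc_r10_3 (by omega) (by omega)
  exact allB_range (f := frl_r10) (lo := 30000) (len := 2760) trc_r10_4 (by omega) (by omega)

theorem rel_r10 : relT tbS 3 (relWords.getD 10 []) = true := trf_r10

theorem trf_r11 : allB NB frl_r11 = true := by
  apply allB_iff.2
  intro a ha
  have ha' : a < 32760 := ha
  rcases Nat.lt_or_ge a 7500 with h0 | h0
  · exact allB_range (f := frl_r11) (lo := 0) (len := 7500) trc_r11_0 (by omega) (by omega)
  rcases Nat.lt_or_ge a 15000 with h1 | h1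
  · exact allB_range (f := frl_r11) (lo := 7500) (len := 7500) trc_r11_1 (by omega) (by omega)
  rcases Nat.lt_or_ge a 22500 with h2 | h2
  · exact allB_range (f := frl_r11) (lo := 15000) (len := 7500) trc_r11_2 (by omega) (by omega)
  rcases Nat.lt_or_ge a 30000 with h3 | h3
  · exact allB_range (f := frl_r11) (lo := 22500) (len := 7500) trc_r11_3 (by omega) (by omega)
  exact allB_range (f := frl_r11) (lo := 30000) (len := 2760) trc_r11_4 (by omega) (by omega)

theorem rel_r11 : relT tbS 3 (relWords.getD 11 []) = true := trf_r11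

theorem trf_r12 : allB NB frl_r12 = true := by
  apply allB_iff.2
  intro a ha
  have ha' : a < 32760 := ha
  rcases Nat.lt_or_ge a 5000 with h0 | h0
  · exact allB_range (f := frl_r12) (lo := 0) (len := 5000) trc_r12_0 (by omega) (by omega)
  rcases Nat.lt_or_ge a 10000 with h1 | h1
  · exact allB_range (f := frl_r12) (lo := 5000) (len := 5000) trc_r12_1 (by omega) (by omega)
  rcases Nat.lt_or_ge a 15000 with h2 | h2
  · exact allB_range (f := frl_r12) (lo := 10000) (len := 5000) trc_r12_2 (by omega) (by omega)
  rcases Nat.lt_or_ge a 20000 with h3 | h3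
  · exact allB_range (f := frl_r12) (lo := 15000) (len := 5000) trc_r12_3 (by omega) (by omega)
  rcases Nat.lt_or_ge a 25000 with h4 | h4
  · exact allB_range (f := frl_r12) (lo := 20000) (len := 5000) trc_r12_4 (by omega) (by omega)
  rcases Nat.lt_or_ge a 30000 with h5 | h5
  · exact allB_range (f := frl_r12) (lo := 25000) (len := 5000) trc_r12_5 (by omega) (by omega)
  exact allB_range (f := frl_r12) (lo := 30000) (len := 2760) trc_r12_6 (by omega) (by omega)

theorem rel_r12 : relT tbS 0 (relWords.getD 12 []) = true := trf_r12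

theorem trf_r13 : allB NB frl_r13 = true := by
  apply allB_iff.2
  intro a ha
  have ha' : a < 32760 := ha
  rcases Nat.lt_or_ge a 5000 with h0 | h0
  · exact allB_range (f := frl_r13) (lo := 0) (len := 5000) trc_r13_0 (by omega) (by omega)
  rcases Nat.lt_or_ge a 10000 with h1 | h1
  · exact allB_range (f := frl_r13) (lo := 5000) (len := 5000) trc_r13_1 (by omega) (by omega)
  rcases Nat.lt_or_ge a 15000 with h2 | h2
  · exact allB_range (f := frl_r13) (lo := 10000) (len := 5000) trc_r13_2 (by omega) (by omega)
  rcases Nat.lt_or_ge a 20000 with h3 | h3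
  · exact allB_range (f := frl_r13) (lo := 15000) (len := 5000) trc_r13_3 (by omega) (by omega)
  rcases Nat.lt_or_ge a 25000 with h4 | h4
  · exact allB_range (f := frl_r13) (lo := 20000) (len := 5000) trc_r13_4 (by omega) (by omega)
  rcases Nat.lt_or_ge a 30000 with h5 | h5
  · exact allB_range (f := frl_r13) (lo := 25000) (len := 5000) trc_r13_5 (by omega) (by omega)
  exact allB_range (f := frl_r13) (lo := 30000) (len := 2760) trc_r13_6 (by omega) (by omega)

theorem rel_r13 : relT tbS 0 (relWords.getD 13 []) = true := trf_r13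

theorem trf_r14 : allB NB frl_r14 = true := by
  apply allB_iff.2
  intro a ha
  have ha' : a < 32760 := ha
  rcases Nat.lt_or_ge a 7500 with h0 | h0
  · exact allB_range (f := frl_r14) (lo := 0) (len := 7500) trc_r14_0 (by omega) (by omega)
  rcases Nat.lt_or_ge a 15000 with h1 | h1
  · exact allB_range (f := frl_r14) (lo := 7500) (len := 7500) trc_r14_1 (by omega) (by omega)
  rcases Nat.lt_or_ge a 22500 with h2 | h2
  · exact allB_range (f := frl_r14) (lo := 15000) (len := 7500) trc_r14_2 (by omega) (by omega)
  rcases Nat.lt_or_ge a 30000 with h3 | h3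
  · exact allB_range (f := frl_r14) (lo := 22500) (len := 7500) trc_r14_3 (by omega) (by omega)
  exact allB_range (f := frl_r14) (lo := 30000) (len := 2760) trc_r14_4 (by omega) (by omega)

theorem rel_r14 : relT tbS 0 (relWords.getD 14 []) = true := trf_r14

theorem trf_r15 : allB NB frl_r15 = true := by
  apply allB_iff.2
  intro a ha
  have ha' : a < 32760 := ha
  rcases Nat.lt_or_ge a 5000 with h0 | h0
  · exact allB_range (f := frl_r15) (lo := 0) (len := 5000) trc_r15_0 (by omega) (by omega)
  rcases Nat.lt_or_ge a 10000 with h1 | h1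
  · exact allB_range (f := frl_r15) (lo := 5000) (len := 5000) trc_r15_1 (by omega) (by omega)
  rcases Nat.lt_or_ge a 15000 with h2 | h2
  · exact allB_range (f := frl_r15) (lo := 10000) (len := 5000) trc_r15_2 (by omega) (by omega)
  rcases Nat.lt_or_ge a 20000 with h3 | h3
  · exact allB_range (f := frl_r15) (lo := 15000) (len := 5000) trc_r15_3 (by omega) (by omega)
  rcases Nat.lt_or_ge a 25000 with h4 | h4
  · exact allB_range (f := frl_r15) (lo := 20000) (len := 5000) trc_r15_4 (by omega) (by omega)
  rcases Nat.lt_or_ge a 30000 with h5 | h5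
  · exact allB_range (f := frl_r15) (lo := 25000) (len := 5000) trc_r15_5 (by omega) (by omega)
  exact allB_range (f := frl_r15) (lo := 30000) (len := 2760) trc_r15_6 (by omega) (by omega)

theorem rel_r15 : relT tbS 3 (relWords.getD 15 []) = true := trf_r15

theorem trf_r16 : allB NB frl_r16 = true := by
  apply allB_iff.2
  intro a ha
  have ha' : a < 32760 := ha
  rcases Nat.lt_or_ge a 15000 with h0 | h0
  · exact allB_range (f := frl_r16) (lo := 0) (len := 15000) trc_r16_0 (by omega) (by omega)
  rcases Nat.lt_or_ge a 30000 with h1 | h1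
  · exact allB_range (f := frl_r16) (lo := 15000) (len := 15000) trc_r16_1 (by omega) (by omega)
  exact allB_range (f := frl_r16) (lo := 30000) (len := 2760) trc_r16_2 (by omega) (by omega)

theorem rel_r16 : relT tbS 0 (relWords.getD 16 []) = true := trf_r16

theorem trf_r17 : allB NB frl_r17 = true := by
  apply allB_iff.2
  intro a ha
  have ha' : a < 32760 := ha
  rcases Nat.lt_or_ge a 1875 with h0 | h0
  · exact allB_range (f := frl_r17) (lo := 0) (len := 1875) trc_r17_0 (by omega) (by omega)
  rcases Nat.lt_or_ge a 3750 with h1 | h1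
  · exact allB_range (f := frl_r17) (lo := 1875) (len := 1875) trc_r17_1 (by omega) (by omega)
  rcases Nat.lt_or_ge a 5625 with h2 | h2
  · exact allB_range (f := frl_r17) (lo := 3750) (len := 1875) trc_r17_2 (by omega) (by omega)
  rcases Nat.lt_or_ge a 7500 with h3 | h3
  · exact allB_range (f := frl_r17) (lo := 5625) (len := 1875) trc_r17_3 (by omega) (by omega)
  rcases Nat.lt_or_ge a 9375 with h4 | h4
  · exact allB_range (f := frl_r17) (lo := 7500) (len := 1875) trc_r17_4 (by omega) (by omega)
  rcases Nat.lt_or_ge a 11250 with h5 | h5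
  · exact allB_range (f := frl_r17) (lo := 9375) (len := 1875) trc_r17_5 (by omega) (by omega)
  rcases Nat.lt_or_ge a 13125 with h6 | h6
  · exact allB_range (f := frl_r17) (lo := 11250) (len := 1875) trc_r17_6 (by omega) (by omega)
  rcases Nat.lt_or_ge a 15000 with h7 | h7
  · exact allB_range (f := frl_r17) (lo := 13125) (len := 1875) trc_r17_7 (by omega) (by omega)
  rcases Nat.lt_or_ge a 16875 with h8 | h8
  · exact allB_range (f := frl_r17) (lo := 15000) (len := 1875) trc_r17_8 (by omega) (by omega)
  rcases Nat.lt_or_ge a 18750 with h9 | h9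
  · exact allB_range (f := frl_r17) (lo := 16875) (len := 1875) trc_r17_9 (by omega) (by omega)
  rcases Nat.lt_or_ge a 20625 with h10 | h10
  · exact allB_range (f := frl_r17) (lo := 18750) (len := 1875) trc_r17_10 (by omega) (by omega)
  rcases Nat.lt_or_ge a 22500 with h11 | h11
  · exact allB_range (f := frl_r17) (lo := 20625) (len := 1875) trc_r17_11 (by omega) (by omega)
  rcases Nat.lt_or_ge a 24375 with h12 | h12
  · exact allB_range (f := frl_r17) (lo := 22500) (len := 1875) trc_r17_12 (by omega) (by omega)
  rcases Nat.lt_or_ge a 26250 with h13 | h13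
  · exact allB_range (f := frl_r17) (lo := 24375) (len := 1875) trc_r17_13 (by omega) (by omega)
  rcases Nat.lt_or_ge a 28125 with h14 | h14
  · exact allB_range (f := frl_r17) (lo := 26250) (len := 1875) trc_r17_14 (by omega) (by omega)
  rcases Nat.lt_or_ge a 30000 with h15 | h15
  · exact allB_range (f := frl_r17) (lo := 28125) (len := 1875) trc_r17_15 (by omega) (by omega)
  rcases Nat.lt_or_ge a 31875 with h16 | h16
  · exact allB_range (f := frl_r17) (lo := 30000) (len := 1875) trc_r17_16 (by omega) (by omega)
  exact allB_range (f := frl_r17) (lo := 31875) (len := 885) trc_r17_17 (by omega) (by omega)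

theorem rel_r17 : relT tbS 0 (relWords.getD 17 []) = true := trf_r17

theorem trf_r18 : allB NB frl_r18 = true := by
  apply allB_iff.2
  intro a ha
  have ha' : a < 32760 := ha
  rcases Nat.lt_or_ge a 7500 with h0 | h0
  · exact allB_range (f := frl_r18) (lo := 0) (len := 7500) trc_r18_0 (by omega) (by omega)
  rcases Nat.lt_or_ge a 15000 with h1 | h1
  · exact allB_range (f := frl_r18) (lo := 7500) (len := 7500) trc_r18_1 (by omega) (by omega)
  rcases Nat.lt_or_ge a 22500 with h2 | h2
  · exact allB_range (f := frl_r18) (lo := 15000) (len := 7500) trc_r18_2 (by omega) (by omega)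
  rcases Nat.lt_or_ge a 30000 with h3 | h3
  · exact allB_range (f := frl_r18) (lo := 22500) (len := 7500) trc_r18_3 (by omega) (by omega)
  exact allB_range (f := frl_r18) (lo := 30000) (len := 2760) trc_r18_4 (by omega) (by omega)

theorem rel_r18 : relT tbS 3 (relWords.getD 18 []) = true := trf_r18

theorem trf_r19 : allB NB frl_r19 = true := by
  apply allB_iff.2
  intro a ha
  have ha' : a < 32760 := ha
  rcases Nat.lt_or_ge a 7500 with h0 | h0
  · exact allB_range (f := frl_r19) (lo := 0) (len := 7500) trc_r19_0 (by omega) (by omega)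
  rcases Nat.lt_or_ge a 15000 with h1 | h1
  · exact allB_range (f := frl_r19) (lo := 7500) (len := 7500) trc_r19_1 (by omega) (by omega)
  rcases Nat.lt_or_ge a 22500 with h2 | h2
  · exact allB_range (f := frl_r19) (lo := 15000) (len := 7500) trc_r19_2 (by omega) (by omega)
  rcases Nat.lt_or_ge a 30000 with h3 | h3
  · exact allB_range (f := frl_r19) (lo := 22500) (len := 7500) trc_r19_3 (by omega) (by omega)
  exact allB_range (f := frl_r19) (lo := 30000) (len := 2760) trc_r19_4 (by omega) (by omega)

theorem rel_r19 : relT tbS 0 (relWords.getD 19 []) = true := trf_r19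

theorem trf_r20 : allB NB frl_r20 = true := by
  apply allB_iff.2
  intro a ha
  have ha' : a < 32760 := ha
  rcases Nat.lt_or_ge a 7500 with h0 | h0
  · exact allB_range (f := frl_r20) (lo := 0) (len := 7500) trc_r20_0 (by omega) (by omega)
  rcases Nat.lt_or_ge a 15000 with h1 | h1
  · exact allB_range (f := frl_r20) (lo := 7500) (len := 7500) trc_r20_1 (by omega) (by omega)
  rcases Nat.lt_or_ge a 22500 with h2 | h2
  · exact allB_range (f := frl_r20) (lo := 15000) (len := 7500) trc_r20_2 (by omega) (by omega)
  rcases Nat.lt_or_ge a 30000 with h3 | h3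
  · exact allB_range (f := frl_r20) (lo := 22500) (len := 7500) trc_r20_3 (by omega) (by omega)
  exact allB_range (f := frl_r20) (lo := 30000) (len := 2760) trc_r20_4 (by omega) (by omega)

theorem rel_r20 : relT tbS 0 (relWords.getD 20 []) = true := trf_r20

theorem trf_r21 : allB NB frl_r21 = true := by
  apply allB_iff.2
  intro a ha
  have ha' : a < 32760 := ha
  rcases Nat.lt_or_ge a 7500 with h0 | h0
  · exact allB_range (f := frl_r21) (lo := 0) (len := 7500) trc_r21_0 (by omega) (by omega)
  rcases Nat.lt_or_ge a 15000 with h1 | h1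
  · exact allB_range (f := frl_r21) (lo := 7500) (len := 7500) trc_r21_1 (by omega) (by omega)
  rcases Nat.lt_or_ge a 22500 with h2 | h2
  · exact allB_range (f := frl_r21) (lo := 15000) (len := 7500) trc_r21_2 (by omega) (by omega)
  rcases Nat.lt_or_ge a 30000 with h3 | h3
  · exact allB_range (f := frl_r21) (lo := 22500) (len := 7500) trc_r21_3 (by omega) (by omega)
  exact allB_range (f := frl_r21) (lo := 30000) (len := 2760) trc_r21_4 (by omega) (by omega)

theorem rel_r21 : relT tbS 3 (relWords.getD 21 []) = true := trf_r21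

theorem trf_r22 : allB NB frl_r22 = true := by
  apply allB_iff.2
  intro a ha
  have ha' : a < 32760 := ha
  rcases Nat.lt_or_ge a 7500 with h0 | h0
  · exact allB_range (f := frl_r22) (lo := 0) (len := 7500) trc_r22_0 (by omega) (by omega)
  rcases Nat.lt_or_ge a 15000 with h1 | h1
  · exact allB_range (f := frl_r22) (lo := 7500) (len := 7500) trc_r22_1 (by omega) (by omega)
  rcases Nat.lt_or_ge a 22500 with h2 | h2
  · exact allB_range (f := frl_r22) (lo := 15000) (len := 7500) trc_r22_2 (by omega) (by omega)
  rcases Nat.lt_or_ge a 30000 with h3 | h3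
  · exact allB_range (f := frl_r22) (lo := 22500) (len := 7500) trc_r22_3 (by omega) (by omega)
  exact allB_range (f := frl_r22) (lo := 30000) (len := 2760) trc_r22_4 (by omega) (by omega)

theorem rel_r22 : relT tbS 3 (relWords.getD 22 []) = true := trf_r22

theorem trf_r23 : allB NB frl_r23 = true := by
  apply allB_iff.2
  intro a ha
  have ha' : a < 32760 := ha
  rcases Nat.lt_or_ge a 1875 with h0 | h0
  · exact allB_range (f := frl_r23) (lo := 0) (len := 1875) trc_r23_0 (by omega) (by omega)
  rcases Nat.lt_or_ge a 3750 with h1 | h1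
  · exact allB_range (f := frl_r23) (lo := 1875) (len := 1875) trc_r23_1 (by omega) (by omega)
  rcases Nat.lt_or_ge a 5625 with h2 | h2
  · exact allB_range (f := frl_r23) (lo := 3750) (len := 1875) trc_r23_2 (by omega) (by omega)
  rcases Nat.lt_or_ge a 7500 with h3 | h3
  · exact allB_range (f := frl_r23) (lo := 5625) (len := 1875) trc_r23_3 (by omega) (by omega)
  rcases Nat.lt_or_ge a 9375 with h4 | h4
  · exact allB_range (f := frl_r23) (lo := 7500) (len := 1875) trc_r23_4 (by omega) (by omega)
  rcases Nat.lt_or_ge a 11250 with h5 | h5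
  · exact allB_range (f := frl_r23) (lo := 9375) (len := 1875) trc_r23_5 (by omega) (by omega)
  rcases Nat.lt_or_ge a 13125 with h6 | h6
  · exact allB_range (f := frl_r23) (lo := 11250) (len := 1875) trc_r23_6 (by omega) (by omega)
  rcases Nat.lt_or_ge a 15000 with h7 | h7
  · exact allB_range (f := frl_r23) (lo := 13125) (len := 1875) trc_r23_7 (by omega) (by omega)
  rcases Nat.lt_or_ge a 16875 with h8 | h8
  · exact allB_range (f := frl_r23) (lo := 15000) (len := 1875) trc_r23_8 (by omega) (by omega)
  rcases Nat.lt_or_ge a 18750 with h9 | h9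
  · exact allB_range (f := frl_r23) (lo := 16875) (len := 1875) trc_r23_9 (by omega) (by omega)
  rcases Nat.lt_or_ge a 20625 with h10 | h10
  · exact allB_range (f := frl_r23) (lo := 18750) (len := 1875) trc_r23_10 (by omega) (by omega)
  rcases Nat.lt_or_ge a 22500 with h11 | h11
  · exact allB_range (f := frl_r23) (lo := 20625) (len := 1875) trc_r23_11 (by omega) (by omega)
  rcases Nat.lt_or_ge a 24375 with h12 | h12
  · exact allB_range (f := frl_r23) (lo := 22500) (len := 1875) trc_r23_12 (by omega) (by omega)
  rcases Nat.lt_or_ge a 26250 with h13 | h13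
  · exact allB_range (f := frl_r23) (lo := 24375) (len := 1875) trc_r23_13 (by omega) (by omega)
  rcases Nat.lt_or_ge a 28125 with h14 | h14
  · exact allB_range (f := frl_r23) (lo := 26250) (len := 1875) trc_r23_14 (by omega) (by omega)
  rcases Nat.lt_or_ge a 30000 with h15 | h15
  · exact allB_range (f := frl_r23) (lo := 28125) (len := 1875) trc_r23_15 (by omega) (by omega)
  rcases Nat.lt_or_ge a 31875 with h16 | h16
  · exact allB_range (f := frl_r23) (lo := 30000) (len := 1875) trc_r23_16 (by omega) (by omega)
  exact allB_range (f := frl_r23) (lo := 31875) (len := 885) trc_r23_17 (by omega) (by omega)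

theorem rel_r23 : relT tbS 0 (relWords.getD 23 []) = true := trf_r23

theorem trf_r24 : allB NB frl_r24 = true := by
  apply allB_iff.2
  intro a ha
  have ha' : a < 32760 := ha
  rcases Nat.lt_or_ge a 15000 with h0 | h0
  · exact allB_range (f := frl_r24) (lo := 0) (len := 15000) trc_r24_0 (by omega) (by omega)
  rcases Nat.lt_or_ge a 30000 with h1 | h1
  · exact allB_range (f := frl_r24) (lo := 15000) (len := 15000) trc_r24_1 (by omega) (by omega)
  exact allB_range (f := frl_r24) (lo := 30000) (len := 2760) trc_r24_2 (by omega) (by omega)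

theorem rel_r24 : relT tbS 3 (relWords.getD 24 []) = true := trf_r24

theorem trf_r25 : allB NB frl_r25 = true := by
  apply allB_iff.2
  intro a ha
  have ha' : a < 32760 := ha
  rcases Nat.lt_or_ge a 5000 with h0 | h0
  · exact allB_range (f := frl_r25) (lo := 0) (len := 5000) trc_r25_0 (by omega) (by omega)
  rcases Nat.lt_or_ge a 10000 with h1 | h1
  · exact allB_range (f := frl_r25) (lo := 5000) (len := 5000) trc_r25_1 (by omega) (by omega)
  rcases Nat.lt_or_ge a 15000 with h2 | h2
  · exact allB_range (f := frl_r25) (lo := 10000) (len := 5000) trc_r25_2 (by omega) (by omega)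
  rcases Nat.lt_or_ge a 20000 with h3 | h3
  · exact allB_range (f := frl_r25) (lo := 15000) (len := 5000) trc_r25_3 (by omega) (by omega)
  rcases Nat.lt_or_ge a 25000 with h4 | h4
  · exact allB_range (f := frl_r25) (lo := 20000) (len := 5000) trc_r25_4 (by omega) (by omega)
  rcases Nat.lt_or_ge a 30000 with h5 | h5
  · exact allB_range (f := frl_r25) (lo := 25000) (len := 5000) trc_r25_5 (by omega) (by omega)
  exact allB_range (f := frl_r25) (lo := 30000) (len := 2760) trc_r25_6 (by omega) (by omega)

theorem rel_r25 : relT tbS 3 (relWords.getD 25 []) = true := trf_r25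

theorem trf_r26 : allB NB frl_r26 = true := by
  apply allB_iff.2
  intro a ha
  have ha' : a < 32760 := ha
  rcases Nat.lt_or_ge a 7500 with h0 | h0
  · exact allB_range (f := frl_r26) (lo := 0) (len := 7500) trc_r26_0 (by omega) (by omega)
  rcases Nat.lt_or_ge a 15000 with h1 | h1
  · exact allB_range (f := frl_r26) (lo := 7500) (len := 7500) trc_r26_1 (by omega) (by omega)
  rcases Nat.lt_or_ge a 22500 with h2 | h2
  · exact allB_range (f := frl_r26) (lo := 15000) (len := 7500) trc_r26_2 (by omega) (by omega)
  rcases Nat.lt_or_ge a 30000 with h3 | h3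
  · exact allB_range (f := frl_r26) (lo := 22500) (len := 7500) trc_r26_3 (by omega) (by omega)
  exact allB_range (f := frl_r26) (lo := 30000) (len := 2760) trc_r26_4 (by omega) (by omega)

theorem rel_r26 : relT tbS 3 (relWords.getD 26 []) = true := trf_r26

theorem trf_r27 : allB NB frl_r27 = true := by
  apply allB_iff.2
  intro a ha
  have ha' : a < 32760 := ha
  rcases Nat.lt_or_ge a 7500 with h0 | h0
  · exact allB_range (f := frl_r27) (lo := 0) (len := 7500) trc_r27_0 (by omega) (by omega)
  rcases Nat.lt_or_ge a 15000 with h1 | h1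
  · exact allB_range (f := frl_r27) (lo := 7500) (len := 7500) trc_r27_1 (by omega) (by omega)
  rcases Nat.lt_or_ge a 22500 with h2 | h2
  · exact allB_range (f := frl_r27) (lo := 15000) (len := 7500) trc_r27_2 (by omega) (by omega)
  rcases Nat.lt_or_ge a 30000 with h3 | h3
  · exact allB_range (f := frl_r27) (lo := 22500) (len := 7500) trc_r27_3 (by omega) (by omega)
  exact allB_range (f := frl_r27) (lo := 30000) (len := 2760) trc_r27_4 (by omega) (by omega)

theorem rel_r27 : relT tbS 3 (relWords.getD 27 []) = true := trf_r27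

theorem trf_r28 : allB NB frl_r28 = true := by
  apply allB_iff.2
  intro a ha
  have ha' : a < 32760 := ha
  rcases Nat.lt_or_ge a 7500 with h0 | h0
  · exact allB_range (f := frl_r28) (lo := 0) (len := 7500) trc_r28_0 (by omega) (by omega)
  rcases Nat.lt_or_ge a 15000 with h1 | h1
  · exact allB_range (f := frl_r28) (lo := 7500) (len := 7500) trc_r28_1 (by omega) (by omega)
  rcases Nat.lt_or_ge a 22500 with h2 | h2
  · exact allB_range (f := frl_r28) (lo := 15000) (len := 7500) trc_r28_2 (by omega) (by omega)
  rcases Nat.lt_or_ge a 30000 with h3 | h3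
  · exact allB_range (f := frl_r28) (lo := 22500) (len := 7500) trc_r28_3 (by omega) (by omega)
  exact allB_range (f := frl_r28) (lo := 30000) (len := 2760) trc_r28_4 (by omega) (by omega)

theorem rel_r28 : relT tbS 3 (relWords.getD 28 []) = true := trf_r28

theorem trf_r29 : allB NB frl_r29 = true := by
  apply allB_iff.2
  intro a ha
  have ha' : a < 32760 := ha
  rcases Nat.lt_or_ge a 7500 with h0 | h0
  · exact allB_range (f := frl_r29) (lo := 0) (len := 7500) trc_r29_0 (by omega) (by omega)
  rcases Nat.lt_or_ge a 15000 with h1 | h1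
  · exact allB_range (f := frl_r29) (lo := 7500) (len := 7500) trc_r29_1 (by omega) (by omega)
  rcases Nat.lt_or_ge a 22500 with h2 | h2
  · exact allB_range (f := frl_r29) (lo := 15000) (len := 7500) trc_r29_2 (by omega) (by omega)
  rcases Nat.lt_or_ge a 30000 with h3 | h3
  · exact allB_range (f := frl_r29) (lo := 22500) (len := 7500) trc_r29_3 (by omega) (by omega)
  exact allB_range (f := frl_r29) (lo := 30000) (len := 2760) trc_r29_4 (by omega) (by omega)

theorem rel_r29 : relT tbS 3 (relWords.getD 29 []) = true := trf_r29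

theorem trf_r30 : allB NB frl_r30 = true := by
  apply allB_iff.2
  intro a ha
  have ha' : a < 32760 := ha
  rcases Nat.lt_or_ge a 7500 with h0 | h0
  · exact allB_range (f := frl_r30) (lo := 0) (len := 7500) trc_r30_0 (by omega) (by omega)
  rcases Nat.lt_or_ge a 15000 with h1 | h1
  · exact allB_range (f := frl_r30) (lo := 7500) (len := 7500) trc_r30_1 (by omega) (by omega)
  rcases Nat.lt_or_ge a 22500 with h2 | h2
  · exact allB_range (f := frl_r30) (lo := 15000) (len := 7500) trc_r30_2 (by omega) (by omega)
  rcases Nat.lt_or_ge a 30000 with h3 | h3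
  · exact allB_range (f := frl_r30) (lo := 22500) (len := 7500) trc_r30_3 (by omega) (by omega)
  exact allB_range (f := frl_r30) (lo := 30000) (len := 2760) trc_r30_4 (by omega) (by omega)

theorem rel_r30 : relT tbS 3 (relWords.getD 30 []) = true := trf_r30

theorem trf_r31 : allB NB frl_r31 = true := by
  apply allB_iff.2
  intro a ha
  have ha' : a < 32760 := ha
  rcases Nat.lt_or_ge a 5000 with h0 | h0
  · exact allB_range (f := frl_r31) (lo := 0) (len := 5000) trc_r31_0 (by omega) (by omega)
  rcases Nat.lt_or_ge a 10000 with h1 | h1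
  · exact allB_range (f := frl_r31) (lo := 5000) (len := 5000) trc_r31_1 (by omega) (by omega)
  rcases Nat.lt_or_ge a 15000 with h2 | h2
  · exact allB_range (f := frl_r31) (lo := 10000) (len := 5000) trc_r31_2 (by omega) (by omega)
  rcases Nat.lt_or_ge a 20000 with h3 | h3
  · exact allB_range (f := frl_r31) (lo := 15000) (len := 5000) trc_r31_3 (by omega) (by omega)
  rcases Nat.lt_or_ge a 25000 with h4 | h4
  · exact allB_range (f := frl_r31) (lo := 20000) (len := 5000) trc_r31_4 (by omega) (by omega)
  rcases Nat.lt_or_ge a 30000 with h5 | h5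
  · exact allB_range (f := frl_r31) (lo := 25000) (len := 5000) trc_r31_5 (by omega) (by omega)
  exact allB_range (f := frl_r31) (lo := 30000) (len := 2760) trc_r31_6 (by omega) (by omega)

theorem rel_r31 : relT tbS 3 (relWords.getD 31 []) = true := trf_r31

theorem trf_r32 : allB NB frl_r32 = true := by
  apply allB_iff.2
  intro a ha
  have ha' : a < 32760 := ha
  rcases Nat.lt_or_ge a 15000 with h0 | h0
  · exact allB_range (f := frl_r32) (lo := 0) (len := 15000) trc_r32_0 (by omega) (by omega)
  rcases Nat.lt_or_ge a 30000 with h1 | h1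
  · exact allB_range (f := frl_r32) (lo := 15000) (len := 15000) trc_r32_1 (by omega) (by omega)
  exact allB_range (f := frl_r32) (lo := 30000) (len := 2760) trc_r32_2 (by omega) (by omega)

theorem rel_r32 : relT tbS 3 (relWords.getD 32 []) = true := trf_r32

theorem trf_r33 : allB NB frl_r33 = true := by
  apply allB_iff.2
  intro a ha
  have ha' : a < 32760 := ha
  rcases Nat.lt_or_ge a 7500 with h0 | h0
  · exact allB_range (f := frl_r33) (lo := 0) (len := 7500) trc_r33_0 (by omega) (by omega)
  rcases Nat.lt_or_ge a 15000 with h1 | h1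
  · exact allB_range (f := frl_r33) (lo := 7500) (len := 7500) trc_r33_1 (by omega) (by omega)
  rcases Nat.lt_or_ge a 22500 with h2 | h2
  · exact allB_range (f := frl_r33) (lo := 15000) (len := 7500) trc_r33_2 (by omega) (by omega)
  rcases Nat.lt_or_ge a 30000 with h3 | h3
  · exact allB_range (f := frl_r33) (lo := 22500) (len := 7500) trc_r33_3 (by omega) (by omega)
  exact allB_range (f := frl_r33) (lo := 30000) (len := 2760) trc_r33_4 (by omega) (by omega)

theorem rel_r33 : relT tbS 3 (relWords.getD 33 []) = true := trf_r33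

theorem trf_r34 : allB NB frl_r34 = true := by
  apply allB_iff.2
  intro a ha
  have ha' : a < 32760 := ha
  rcases Nat.lt_or_ge a 7500 with h0 | h0
  · exact allB_range (f := frl_r34) (lo := 0) (len := 7500) trc_r34_0 (by omega) (by omega)
  rcases Nat.lt_or_ge a 15000 with h1 | h1
  · exact allB_range (f := frl_r34) (lo := 7500) (len := 7500) trc_r34_1 (by omega) (by omega)
  rcases Nat.lt_or_ge a 22500 with h2 | h2
  · exact allB_range (f := frl_r34) (lo := 15000) (len := 7500) trc_r34_2 (by omega) (by omega)
  rcases Nat.lt_or_ge a 30000 with h3 | h3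
  · exact allB_range (f := frl_r34) (lo := 22500) (len := 7500) trc_r34_3 (by omega) (by omega)
  exact allB_range (f := frl_r34) (lo := 30000) (len := 2760) trc_r34_4 (by omega) (by omega)

theorem rel_r34 : relT tbS 3 (relWords.getD 34 []) = true := trf_r34

theorem trf_r35 : allB NB frl_r35 = true := by
  apply allB_iff.2
  intro a ha
  have ha' : a < 32760 := ha
  rcases Nat.lt_or_ge a 7500 with h0 | h0
  · exact allB_range (f := frl_r35) (lo := 0) (len := 7500) trc_r35_0 (by omega) (by omega)
  rcases Nat.lt_or_ge a 15000 with h1 | h1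
  · exact allB_range (f := frl_r35) (lo := 7500) (len := 7500) trc_r35_1 (by omega) (by omega)
  rcases Nat.lt_or_ge a 22500 with h2 | h2
  · exact allB_range (f := frl_r35) (lo := 15000) (len := 7500) trc_r35_2 (by omega) (by omega)
  rcases Nat.lt_or_ge a 30000 with h3 | h3
  · exact allB_range (f := frl_r35) (lo := 22500) (len := 7500) trc_r35_3 (by omega) (by omega)
  exact allB_range (f := frl_r35) (lo := 30000) (len := 2760) trc_r35_4 (by omega) (by omega)

theorem rel_r35 : relT tbS 0 (relWords.getD 35 []) = true := trf_r35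

theorem trf_r36 : allB NB frl_r36 = true := by
  apply allB_iff.2
  intro a ha
  have ha' : a < 32760 := ha
  rcases Nat.lt_or_ge a 5000 with h0 | h0
  · exact allB_range (f := frl_r36) (lo := 0) (len := 5000) trc_r36_0 (by omega) (by omega)
  rcases Nat.lt_or_ge a 10000 with h1 | h1
  · exact allB_range (f := frl_r36) (lo := 5000) (len := 5000) trc_r36_1 (by omega) (by omega)
  rcases Nat.lt_or_ge a 15000 with h2 | h2
  · exact allB_range (f := frl_r36) (lo := 10000) (len := 5000) trc_r36_2 (by omega) (by omega)
  rcases Nat.lt_or_ge a 20000 with h3 | h3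
  · exact allB_range (f := frl_r36) (lo := 15000) (len := 5000) trc_r36_3 (by omega) (by omega)
  rcases Nat.lt_or_ge a 25000 with h4 | h4
  · exact allB_range (f := frl_r36) (lo := 20000) (len := 5000) trc_r36_4 (by omega) (by omega)
  rcases Nat.lt_or_ge a 30000 with h5 | h5
  · exact allB_range (f := frl_r36) (lo := 25000) (len := 5000) trc_r36_5 (by omega) (by omega)
  exact allB_range (f := frl_r36) (lo := 30000) (len := 2760) trc_r36_6 (by omega) (by omega)

theorem rel_r36 : relT tbS 0 (relWords.getD 36 []) = true := trf_r36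

theorem trf_r37 : allB NB frl_r37 = true := by
  apply allB_iff.2
  intro a ha
  have ha' : a < 32760 := ha
  rcases Nat.lt_or_ge a 7500 with h0 | h0
  · exact allB_range (f := frl_r37) (lo := 0) (len := 7500) trc_r37_0 (by omega) (by omega)
  rcases Nat.lt_or_ge a 15000 with h1 | h1
  · exact allB_range (f := frl_r37) (lo := 7500) (len := 7500) trc_r37_1 (by omega) (by omega)
  rcases Nat.lt_or_ge a 22500 with h2 | h2
  · exact allB_range (f := frl_r37) (lo := 15000) (len := 7500) trc_r37_2 (by omega) (by omega)
  rcases Nat.lt_or_ge a 30000 with h3 | h3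
  · exact allB_range (f := frl_r37) (lo := 22500) (len := 7500) trc_r37_3 (by omega) (by omega)
  exact allB_range (f := frl_r37) (lo := 30000) (len := 2760) trc_r37_4 (by omega) (by omega)

theorem rel_r37 : relT tbS 0 (relWords.getD 37 []) = true := trf_r37

theorem trf_r38 : allB NB frl_r38 = true := by
  apply allB_iff.2
  intro a ha
  have ha' : a < 32760 := ha
  rcases Nat.lt_or_ge a 7500 with h0 | h0
  · exact allB_range (f := frl_r38) (lo := 0) (len := 7500) trc_r38_0 (by omega) (by omega)
  rcases Nat.lt_or_ge a 15000 with h1 | h1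
  · exact allB_range (f := frl_r38) (lo := 7500) (len := 7500) trc_r38_1 (by omega) (by omega)
  rcases Nat.lt_or_ge a 22500 with h2 | h2
  · exact allB_range (f := frl_r38) (lo := 15000) (len := 7500) trc_r38_2 (by omega) (by omega)
  rcases Nat.lt_or_ge a 30000 with h3 | h3
  · exact allB_range (f := frl_r38) (lo := 22500) (len := 7500) trc_r38_3 (by omega) (by omega)
  exact allB_range (f := frl_r38) (lo := 30000) (len := 2760) trc_r38_4 (by omega) (by omega)

theorem rel_r38 : relT tbS 3 (relWords.getD 38 []) = true := trf_r38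

theorem trf_r39 : allB NB frl_r39 = true := by
  apply allB_iff.2
  intro a ha
  have ha' : a < 32760 := ha
  rcases Nat.lt_or_ge a 7500 with h0 | h0
  · exact allB_range (f := frl_r39) (lo := 0) (len := 7500) trc_r39_0 (by omega) (by omega)
  rcases Nat.lt_or_ge a 15000 with h1 | h1
  · exact allB_range (f := frl_r39) (lo := 7500) (len := 7500) trc_r39_1 (by omega) (by omega)
  rcases Nat.lt_or_ge a 22500 with h2 | h2
  · exact allB_range (f := frl_r39) (lo := 15000) (len := 7500) trc_r39_2 (by omega) (by omega)
  rcases Nat.lt_or_ge a 30000 with h3 | h3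
  · exact allB_range (f := frl_r39) (lo := 22500) (len := 7500) trc_r39_3 (by omega) (by omega)
  exact allB_range (f := frl_r39) (lo := 30000) (len := 2760) trc_r39_4 (by omega) (by omega)

theorem rel_r39 : relT tbS 3 (relWords.getD 39 []) = true := trf_r39

theorem trf_r40 : allB NB frl_r40 = true := by
  apply allB_iff.2
  intro a ha
  have ha' : a < 32760 := ha
  rcases Nat.lt_or_ge a 15000 with h0 | h0
  · exact allB_range (f := frl_r40) (lo := 0) (len := 15000) trc_r40_0 (by omega) (by omega)
  rcases Nat.lt_or_ge a 30000 with h1 | h1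
  · exact allB_range (f := frl_r40) (lo := 15000) (len := 15000) trc_r40_1 (by omega) (by omega)
  exact allB_range (f := frl_r40) (lo := 30000) (len := 2760) trc_r40_2 (by omega) (by omega)

theorem rel_r40 : relT tbS 0 (relWords.getD 40 []) = true := trf_r40

theorem trf_r41 : allB NB frl_r41 = true := by
  apply allB_iff.2
  intro a ha
  have ha' : a < 32760 := ha
  rcases Nat.lt_or_ge a 3750 with h0 | h0
  · exact allB_range (f := frl_r41) (lo := 0) (len := 3750) trc_r41_0 (by omega) (by omega)
  rcases Nat.lt_or_ge a 7500 with h1 | h1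
  · exact allB_range (f := frl_r41) (lo := 3750) (len := 3750) trc_r41_1 (by omega) (by omega)
  rcases Nat.lt_or_ge a 11250 with h2 | h2
  · exact allB_range (f := frl_r41) (lo := 7500) (len := 3750) trc_r41_2 (by omega) (by omega)
  rcases Nat.lt_or_ge a 15000 with h3 | h3
  · exact allB_range (f := frl_r41) (lo := 11250) (len := 3750) trc_r41_3 (by omega) (by omega)
  rcases Nat.lt_or_ge a 18750 with h4 | h4
  · exact allB_range (f := frl_r41) (lo := 15000) (len := 3750) trc_r41_4 (by omega) (by omega)
  rcases Nat.lt_or_ge a 22500 with h5 | h5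
  · exact allB_range (f := frl_r41) (lo := 18750) (len := 3750) trc_r41_5 (by omega) (by omega)
  rcases Nat.lt_or_ge a 26250 with h6 | h6
  · exact allB_range (f := frl_r41) (lo := 22500) (len := 3750) trc_r41_6 (by omega) (by omega)
  rcases Nat.lt_or_ge a 30000 with h7 | h7
  · exact allB_range (f := frl_r41) (lo := 26250) (len := 3750) trc_r41_7 (by omega) (by omega)
  exact allB_range (f := frl_r41) (lo := 30000) (len := 2760) trc_r41_8 (by omega) (by omega)

theorem rel_r41 : relT tbS 0 (relWords.getD 41 []) = true := trf_r41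

theorem trf_r42 : allB NB frl_r42 = true := by
  apply allB_iff.2
  intro a ha
  have ha' : a < 32760 := ha
  rcases Nat.lt_or_ge a 7500 with h0 | h0
  · exact allB_range (f := frl_r42) (lo := 0) (len := 7500) trc_r42_0 (by omega) (by omega)
  rcases Nat.lt_or_ge a 15000 with h1 | h1
  · exact allB_range (f := frl_r42) (lo := 7500) (len := 7500) trc_r42_1 (by omega) (by omega)
  rcases Nat.lt_or_ge a 22500 with h2 | h2
  · exact allB_range (f := frl_r42) (lo := 15000) (len := 7500) trc_r42_2 (by omega) (by omega)
  rcases Nat.lt_or_ge a 30000 with h3 | h3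
  · exact allB_range (f := frl_r42) (lo := 22500) (len := 7500) trc_r42_3 (by omega) (by omega)
  exact allB_range (f := frl_r42) (lo := 30000) (len := 2760) trc_r42_4 (by omega) (by omega)

theorem rel_r42 : relT tbS 0 (relWords.getD 42 []) = true := trf_r42

theorem trf_r43 : allB NB frl_r43 = true := by
  apply allB_iff.2
  intro a ha
  have ha' : a < 32760 := ha
  rcases Nat.lt_or_ge a 5000 with h0 | h0
  · exact allB_range (f := frl_r43) (lo := 0) (len := 5000) trc_r43_0 (by omega) (by omega)
  rcases Nat.lt_or_ge a 10000 with h1 | h1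
  · exact allB_range (f := frl_r43) (lo := 5000) (len := 5000) trc_r43_1 (by omega) (by omega)
  rcases Nat.lt_or_ge a 15000 with h2 | h2
  · exact allB_range (f := frl_r43) (lo := 10000) (len := 5000) trc_r43_2 (by omega) (by omega)
  rcases Nat.lt_or_ge a 20000 with h3 | h3
  · exact allB_range (f := frl_r43) (lo := 15000) (len := 5000) trc_r43_3 (by omega) (by omega)
  rcases Nat.lt_or_ge a 25000 with h4 | h4
  · exact allB_range (f := frl_r43) (lo := 20000) (len := 5000) trc_r43_4 (by omega) (by omega)
  rcases Nat.lt_or_ge a 30000 with h5 | h5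
  · exact allB_range (f := frl_r43) (lo := 25000) (len := 5000) trc_r43_5 (by omega) (by omega)
  exact allB_range (f := frl_r43) (lo := 30000) (len := 2760) trc_r43_6 (by omega) (by omega)

theorem rel_r43 : relT tbS 0 (relWords.getD 43 []) = true := trf_r43

theorem trf_r44 : allB NB frl_r44 = true := by
  apply allB_iff.2
  intro a ha
  have ha' : a < 32760 := ha
  rcases Nat.lt_or_ge a 7500 with h0 | h0
  · exact allB_range (f := frl_r44) (lo := 0) (len := 7500) trc_r44_0 (by omega) (by omega)
  rcases Nat.lt_or_ge a 15000 with h1 | h1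
  · exact allB_range (f := frl_r44) (lo := 7500) (len := 7500) trc_r44_1 (by omega) (by omega)
  rcases Nat.lt_or_ge a 22500 with h2 | h2
  · exact allB_range (f := frl_r44) (lo := 15000) (len := 7500) trc_r44_2 (by omega) (by omega)
  rcases Nat.lt_or_ge a 30000 with h3 | h3
  · exact allB_range (f := frl_r44) (lo := 22500) (len := 7500) trc_r44_3 (by omega) (by omega)
  exact allB_range (f := frl_r44) (lo := 30000) (len := 2760) trc_r44_4 (by omega) (by omega)

theorem rel_r44 : relT tbS 0 (relWords.getD 44 []) = true := trf_r44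

theorem trf_r45 : allB NB frl_r45 = true := by
  apply allB_iff.2
  intro a ha
  have ha' : a < 32760 := ha
  rcases Nat.lt_or_ge a 7500 with h0 | h0
  · exact allB_range (f := frl_r45) (lo := 0) (len := 7500) trc_r45_0 (by omega) (by omega)
  rcases Nat.lt_or_ge a 15000 with h1 | h1
  · exact allB_range (f := frl_r45) (lo := 7500) (len := 7500) trc_r45_1 (by omega) (by omega)
  rcases Nat.lt_or_ge a 22500 with h2 | h2
  · exact allB_range (f := frl_r45) (lo := 15000) (len := 7500) trc_r45_2 (by omega) (by omega)
  rcases Nat.lt_or_ge a 30000 with h3 | h3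
  · exact allB_range (f := frl_r45) (lo := 22500) (len := 7500) trc_r45_3 (by omega) (by omega)
  exact allB_range (f := frl_r45) (lo := 30000) (len := 2760) trc_r45_4 (by omega) (by omega)

theorem rel_r45 : relT tbS 3 (relWords.getD 45 []) = true := trf_r45

theorem trf_r46 : allB NB frl_r46 = true := by
  apply allB_iff.2
  intro a ha
  have ha' : a < 32760 := ha
  rcases Nat.lt_or_ge a 7500 with h0 | h0
  · exact allB_range (f := frl_r46) (lo := 0) (len := 7500) trc_r46_0 (by omega) (by omega)
  rcases Nat.lt_or_ge a 15000 with h1 | h1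
  · exact allB_range (f := frl_r46) (lo := 7500) (len := 7500) trc_r46_1 (by omega) (by omega)
  rcases Nat.lt_or_ge a 22500 with h2 | h2
  · exact allB_range (f := frl_r46) (lo := 15000) (len := 7500) trc_r46_2 (by omega) (by omega)
  rcases Nat.lt_or_ge a 30000 with h3 | h3
  · exact allB_range (f := frl_r46) (lo := 22500) (len := 7500) trc_r46_3 (by omega) (by omega)
  exact allB_range (f := frl_r46) (lo := 30000) (len := 2760) trc_r46_4 (by omega) (by omega)

theorem rel_r46 : relT tbS 3 (relWords.getD 46 []) = true := trf_r46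

theorem trf_r47 : allB NB frl_r47 = true := by
  apply allB_iff.2
  intro a ha
  have ha' : a < 32760 := ha
  rcases Nat.lt_or_ge a 3750 with h0 | h0
  · exact allB_range (f := frl_r47) (lo := 0) (len := 3750) trc_r47_0 (by omega) (by omega)
  rcases Nat.lt_or_ge a 7500 with h1 | h1
  · exact allB_range (f := frl_r47) (lo := 3750) (len := 3750) trc_r47_1 (by omega) (by omega)
  rcases Nat.lt_or_ge a 11250 with h2 | h2
  · exact allB_range (f := frl_r47) (lo := 7500) (len := 3750) trc_r47_2 (by omega) (by omega)
  rcases Nat.lt_or_ge a 15000 with h3 | h3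
  · exact allB_range (f := frl_r47) (lo := 11250) (len := 3750) trc_r47_3 (by omega) (by omega)
  rcases Nat.lt_or_ge a 18750 with h4 | h4
  · exact allB_range (f := frl_r47) (lo := 15000) (len := 3750) trc_r47_4 (by omega) (by omega)
  rcases Nat.lt_or_ge a 22500 with h5 | h5
  · exact allB_range (f := frl_r47) (lo := 18750) (len := 3750) trc_r47_5 (by omega) (by omega)
  rcases Nat.lt_or_ge a 26250 with h6 | h6
  · exact allB_range (f := frl_r47) (lo := 22500) (len := 3750) trc_r47_6 (by omega) (by omega)
  rcases Nat.lt_or_ge a 30000 with h7 | h7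
  · exact allB_range (f := frl_r47) (lo := 26250) (len := 3750) trc_r47_7 (by omega) (by omega)
  exact allB_range (f := frl_r47) (lo := 30000) (len := 2760) trc_r47_8 (by omega) (by omega)

theorem rel_r47 : relT tbS 0 (relWords.getD 47 []) = true := trf_r47

theorem trf_r48 : allB NB frl_r48 = true := by
  apply allB_iff.2
  intro a ha
  have ha' : a < 32760 := ha
  rcases Nat.lt_or_ge a 15000 with h0 | h0
  · exact allB_range (f := frl_r48) (lo := 0) (len := 15000) trc_r48_0 (by omega) (by omega)
  rcases Nat.lt_or_ge a 30000 with h1 | h1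
  · exact allB_range (f := frl_r48) (lo := 15000) (len := 15000) trc_r48_1 (by omega) (by omega)
  exact allB_range (f := frl_r48) (lo := 30000) (len := 2760) trc_r48_2 (by omega) (by omega)

theorem rel_r48 : relT tbS 0 (relWords.getD 48 []) = true := trf_r48

theorem trf_r49 : allB NB frl_r49 = true := by
  apply allB_iff.2
  intro a ha
  have ha' : a < 32760 := ha
  rcases Nat.lt_or_ge a 3333 with h0 | h0
  · exact allB_range (f := frl_r49) (lo := 0) (len := 3333) trc_r49_0 (by omega) (by omega)
  rcases Nat.lt_or_ge a 6666 with h1 | h1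
  · exact allB_range (f := frl_r49) (lo := 3333) (len := 3333) trc_r49_1 (by omega) (by omega)
  rcases Nat.lt_or_ge a 9999 with h2 | h2
  · exact allB_range (f := frl_r49) (lo := 6666) (len := 3333) trc_r49_2 (by omega) (by omega)
  rcases Nat.lt_or_ge a 13332 with h3 | h3
  · exact allB_range (f := frl_r49) (lo := 9999) (len := 3333) trc_r49_3 (by omega) (by omega)
  rcases Nat.lt_or_ge a 16665 with h4 | h4
  · exact allB_range (f := frl_r49) (lo := 13332) (len := 3333) trc_r49_4 (by omega) (by omega)
  rcases Nat.lt_or_ge a 19998 with h5 | h5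
  · exact allB_range (f := frl_r49) (lo := 16665) (len := 3333) trc_r49_5 (by omega) (by omega)
  rcases Nat.lt_or_ge a 23331 with h6 | h6
  · exact allB_range (f := frl_r49) (lo := 19998) (len := 3333) trc_r49_6 (by omega) (by omega)
  rcases Nat.lt_or_ge a 26664 with h7 | h7
  · exact allB_range (f := frl_r49) (lo := 23331) (len := 3333) trc_r49_7 (by omega) (by omega)
  rcases Nat.lt_or_ge a 29997 with h8 | h8
  · exact allB_range (f := frl_r49) (lo := 26664) (len := 3333) trc_r49_8 (by omega) (by omega)
  exact allB_range (f := frl_r49) (lo := 29997) (len := 2763) trc_r49_9 (by omega) (by omega)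

theorem rel_r49 : relT tbS 0 (relWords.getD 49 []) = true := trf_r49

theorem trf_r50 : allB NB frl_r50 = true := by
  apply allB_iff.2
  intro a ha
  have ha' : a < 32760 := ha
  rcases Nat.lt_or_ge a 6000 with h0 | h0
  · exact allB_range (f := frl_r50) (lo := 0) (len := 6000) trc_r50_0 (by omega) (by omega)
  rcases Nat.lt_or_ge a 12000 with h1 | h1
  · exact allB_range (f := frl_r50) (lo := 6000) (len := 6000) trc_r50_1 (by omega) (by omega)
  rcases Nat.lt_or_ge a 18000 with h2 | h2
  · exact allB_range (f := frl_r50) (lo := 12000) (len := 6000) trc_r50_2 (by omega) (by omega)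
  rcases Nat.lt_or_ge a 24000 with h3 | h3
  · exact allB_range (f := frl_r50) (lo := 18000) (len := 6000) trc_r50_3 (by omega) (by omega)
  rcases Nat.lt_or_ge a 30000 with h4 | h4
  · exact allB_range (f := frl_r50) (lo := 24000) (len := 6000) trc_r50_4 (by omega) (by omega)
  exact allB_range (f := frl_r50) (lo := 30000) (len := 2760) trc_r50_5 (by omega) (by omega)

theorem rel_r50 : relT tbS 0 (relWords.getD 50 []) = true := trf_r50

theorem trf_r51 : allB NB frl_r51 = true := by
  apply allB_iff.2
  intro a ha
  have ha' : a < 32760 := ha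
  rcases Nat.lt_or_ge a 1500 with h0 | h0
  · exact allB_range (f := frl_r51) (lo := 0) (len := 1500) trc_r51_0 (by omega) (by omega)
  rcases Nat.lt_or_ge a 3000 with h1 | h1
  · exact allB_range (f := frl_r51) (lo := 1500) (len := 1500) trc_r51_1 (by omega) (by omega)
  rcases Nat.lt_or_ge a 4500 with h2 | h2
  · exact allB_range (f := frl_r51) (lo := 3000) (len := 1500) trc_r51_2 (by omega) (by omega)
  rcases Nat.lt_or_ge a 6000 with h3 | h3
  · exact allB_range (f := frl_r51) (lo := 4500) (len := 1500) trc_r51_3 (by omega) (by omega)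
  rcases Nat.lt_or_ge a 7500 with h4 | h4
  · exact allB_range (f := frl_r51) (lo := 6000) (len := 1500) trc_r51_4 (by omega) (by omega)
  rcases Nat.lt_or_ge a 9000 with h5 | h5
  · exact allB_range (f := frl_r51) (lo := 7500) (len := 1500) trc_r51_5 (by omega) (by omega)
  rcases Nat.lt_or_ge a 10500 with h6 | h6
  · exact allB_range (f := frl_r51) (lo := 9000) (len := 1500) trc_r51_6 (by omega) (by omega)
  rcases Nat.lt_or_ge a 12000 with h7 | h7
  · exact allB_range (f := frl_r51) (lo := 10500) (len := 1500) trc_r51_7 (by omega) (by omega)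
  rcases Nat.lt_or_ge a 13500 with h8 | h8
  · exact allB_range (f := frl_r51) (lo := 12000) (len := 1500) trc_r51_8 (by omega) (by omega)
  rcases Nat.lt_or_ge a 15000 with h9 | h9
  · exact allB_range (f := frl_r51) (lo := 13500) (len := 1500) trc_r51_9 (by omega) (by omega)
  rcases Nat.lt_or_ge a 16500 with h10 | h10
  · exact allB_range (f := frl_r51) (lo := 15000) (len := 1500) trc_r51_10 (by omega) (by omega)
  rcases Nat.lt_or_ge a 18000 with h11 | h11
  · exact allB_range (f := frl_r51) (lo := 16500) (len := 1500) trc_r51_11 (by omega) (by omega)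
  rcases Nat.lt_or_ge a 19500 with h12 | h12
  · exact allB_range (f := frl_r51) (lo := 18000) (len := 1500) trc_r51_12 (by omega) (by omega)
  rcases Nat.lt_or_ge a 21000 with h13 | h13
  · exact allB_range (f := frl_r51) (lo := 19500) (len := 1500) trc_r51_13 (by omega) (by omega)
  rcases Nat.lt_or_ge a 22500 with h14 | h14
  · exact allB_range (f := frl_r51) (lo := 21000) (len := 1500) trc_r51_14 (by omega) (by omega)
  rcases Nat.lt_or_ge a 24000 with h15 | h15
  · exact allB_range (f := frl_r51) (lo := 22500) (len := 1500) trc_r51_15 (by omega) (by omega)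
  rcases Nat.lt_or_ge a 25500 with h16 | h16
  · exact allB_range (f := frl_r51) (lo := 24000) (len := 1500) trc_r51_16 (by omega) (by omega)
  rcases Nat.lt_or_ge a 27000 with h17 | h17
  · exact allB_range (f := frl_r51) (lo := 25500) (len := 1500) trc_r51_17 (by omega) (by omega)
  rcases Nat.lt_or_ge a 28500 with h18 | h18
  · exact allB_range (f := frl_r51) (lo := 27000) (len := 1500) trc_r51_18 (by omega) (by omega)
  rcases Nat.lt_or_ge a 30000 with h19 | h19
  · exact allB_range (f := frl_r51) (lo := 28500) (len := 1500) trc_r51_19 (by omega) (by omega)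
  rcases Nat.lt_or_ge a 31500 with h20 | h20
  · exact allB_range (f := frl_r51) (lo := 30000) (len := 1500) trc_r51_20 (by omega) (by omega)
  exact allB_range (f := frl_r51) (lo := 31500) (len := 1260) trc_r51_21 (by omega) (by omega)

theorem rel_r51 : relT tbS 0 (relWords.getD 51 []) = true := trf_r51

theorem trf_r52 : allB NB frl_r52 = true := by
  apply allB_iff.2
  intro a ha
  have ha' : a < 32760 := ha
  rcases Nat.lt_or_ge a 2000 with h0 | h0
  · exact allB_range (f := frl_r52) (lo := 0) (len := 2000) trc_r52_0 (by omega) (by omega)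
  rcases Nat.lt_or_ge a 4000 with h1 | h1
  · exact allB_range (f := frl_r52) (lo := 2000) (len := 2000) trc_r52_1 (by omega) (by omega)
  rcases Nat.lt_or_ge a 6000 with h2 | h2
  · exact allB_range (f := frl_r52) (lo := 4000) (len := 2000) trc_r52_2 (by omega) (by omega)
  rcases Nat.lt_or_ge a 8000 with h3 | h3
  · exact allB_range (f := frl_r52) (lo := 6000) (len := 2000) trc_r52_3 (by omega) (by omega)
  rcases Nat.lt_or_ge a 10000 with h4 | h4
  · exact allB_range (f := frl_r52) (lo := 8000) (len := 2000) trc_r52_4 (by omega) (by omega)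
  rcases Nat.lt_or_ge a 12000 with h5 | h5
  · exact allB_range (f := frl_r52) (lo := 10000) (len := 2000) trc_r52_5 (by omega) (by omega)
  rcases Nat.lt_or_ge a 14000 with h6 | h6
  · exact allB_range (f := frl_r52) (lo := 12000) (len := 2000) trc_r52_6 (by omega) (by omega)
  rcases Nat.lt_or_ge a 16000 with h7 | h7
  · exact allB_range (f := frl_r52) (lo := 14000) (len := 2000) trc_r52_7 (by omega) (by omega)
  rcases Nat.lt_or_ge a 18000 with h8 | h8
  · exact allB_range (f := frl_r52) (lo := 16000) (len := 2000) trc_r52_8 (by omega) (by omega)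
  rcases Nat.lt_or_ge a 20000 with h9 | h9
  · exact allB_range (f := frl_r52) (lo := 18000) (len := 2000) trc_r52_9 (by omega) (by omega)
  rcases Nat.lt_or_ge a 22000 with h10 | h10
  · exact allB_range (f := frl_r52) (lo := 20000) (len := 2000) trc_r52_10 (by omega) (by omega)
  rcases Nat.lt_or_ge a 24000 with h11 | h11
  · exact allB_range (f := frl_r52) (lo := 22000) (len := 2000) trc_r52_11 (by omega) (by omega)
  rcases Nat.lt_or_ge a 26000 with h12 | h12
  · exact allB_range (f := frl_r52) (lo := 24000) (len := 2000) trc_r52_12 (by omega) (by omega)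
  rcases Nat.lt_or_ge a 28000 with h13 | h13
  · exact allB_range (f := frl_r52) (lo := 26000) (len := 2000) trc_r52_13 (by omega) (by omega)
  rcases Nat.lt_or_ge a 30000 with h14 | h14
  · exact allB_range (f := frl_r52) (lo := 28000) (len := 2000) trc_r52_14 (by omega) (by omega)
  rcases Nat.lt_or_ge a 32000 with h15 | h15
  · exact allB_range (f := frl_r52) (lo := 30000) (len := 2000) trc_r52_15 (by omega) (by omega)
  exact allB_range (f := frl_r52) (lo := 32000) (len := 760) trc_r52_16 (by omega) (by omega)

theorem rel_r52 : relT tbS 4 (relWords.getD 52 []) = true := trf_r52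

theorem trf_r53 : allB NB frl_r53 = true := by
  apply allB_iff.2
  intro a ha
  have ha' : a < 32760 := ha
  rcases Nat.lt_or_ge a 384 with h0 | h0
  · exact allB_range (f := frl_r53) (lo := 0) (len := 384) trc_r53_0 (by omega) (by omega)
  rcases Nat.lt_or_ge a 768 with h1 | h1
  · exact allB_range (f := frl_r53) (lo := 384) (len := 384) trc_r53_1 (by omega) (by omega)
  rcases Nat.lt_or_ge a 1152 with h2 | h2
  · exact allB_range (f := frl_r53) (lo := 768) (len := 384) trc_r53_2 (by omega) (by omega)
  rcases Nat.lt_or_ge a 1536 with h3 | h3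
  · exact allB_range (f := frl_r53) (lo := 1152) (len := 384) trc_r53_3 (by omega) (by omega)
  rcases Nat.lt_or_ge a 1920 with h4 | h4
  · exact allB_range (f := frl_r53) (lo := 1536) (len := 384) trc_r53_4 (by omega) (by omega)
  rcases Nat.lt_or_ge a 2304 with h5 | h5
  · exact allB_range (f := frl_r53) (lo := 1920) (len := 384) trc_r53_5 (by omega) (by omega)
  rcases Nat.lt_or_ge a 2688 with h6 | h6
  · exact allB_range (f := frl_r53) (lo := 2304) (len := 384) trc_r53_6 (by omega) (by omega)
  rcases Nat.lt_or_ge a 3072 with h7 | h7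
  · exact allB_range (f := frl_r53) (lo := 2688) (len := 384) trc_r53_7 (by omega) (by omega)
  rcases Nat.lt_or_ge a 3456 with h8 | h8
  · exact allB_range (f := frl_r53) (lo := 3072) (len := 384) trc_r53_8 (by omega) (by omega)
  rcases Nat.lt_or_ge a 3840 with h9 | h9
  · exact allB_range (f := frl_r53) (lo := 3456) (len := 384) trc_r53_9 (by omega) (by omega)
  rcases Nat.lt_or_ge a 4224 with h10 | h10
  · exact allB_range (f := frl_r53) (lo := 3840) (len := 384) trc_r53_10 (by omega) (by omega)
  rcases Nat.lt_or_ge a 4608 with h11 | h11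
  · exact allB_range (f := frl_r53) (lo := 4224) (len := 384) trc_r53_11 (by omega) (by omega)
  rcases Nat.lt_or_ge a 4992 with h12 | h12
  · exact allB_range (f := frl_r53) (lo := 4608) (len := 384) trc_r53_12 (by omega) (by omega)
  rcases Nat.lt_or_ge a 5376 with h13 | h13
  · exact allB_range (f := frl_r53) (lo := 4992) (len := 384) trc_r53_13 (by omega) (by omega)
  rcases Nat.lt_or_ge a 5760 with h14 | h14
  · exact allB_range (f := frl_r53) (lo := 5376) (len := 384) trc_r53_14 (by omega) (by omega)
  rcases Nat.lt_or_ge a 6144 with h15 | h15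
  · exact allB_range (f := frl_r53) (lo := 5760) (len := 384) trc_r53_15 (by omega) (by omega)
  rcases Nat.lt_or_ge a 6528 with h16 | h16
  · exact allB_range (f := frl_r53) (lo := 6144) (len := 384) trc_r53_16 (by omega) (by omega)
  rcases Nat.lt_or_ge a 6912 with h17 | h17
  · exact allB_range (f := frl_r53) (lo := 6528) (len := 384) trc_r53_17 (by omega) (by omega)
  rcases Nat.lt_or_ge a 7296 with h18 | h18
  · exact allB_range (f := frl_r53) (lo := 6912) (len := 384) trc_r53_18 (by omega) (by omega)
  rcases Nat.lt_or_ge a 7680 with h19 | h19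
  · exact allB_range (f := frl_r53) (lo := 7296) (len := 384) trc_r53_19 (by omega) (by omega)
  rcases Nat.lt_or_ge a 8064 with h20 | h20
  · exact allB_range (f := frl_r53) (lo := 7680) (len := 384) trc_r53_20 (by omega) (by omega)
  rcases Nat.lt_or_ge a 8448 with h21 | h21
  · exact allB_range (f := frl_r53) (lo := 8064) (len := 384) trc_r53_21 (by omega) (by omega)
  rcases Nat.lt_or_ge a 8832 with h22 | h22
  · exact allB_range (f := frl_r53) (lo := 8448) (len := 384) trc_r53_22 (by omega) (by omega)
  rcases Nat.lt_or_ge a 9216 with h23 | h23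
  · exact allB_range (f := frl_r53) (lo := 8832) (len := 384) trc_r53_23 (by omega) (by omega)
  rcases Nat.lt_or_ge a 9600 with h24 | h24
  · exact allB_range (f := frl_r53) (lo := 9216) (len := 384) trc_r53_24 (by omega) (by omega)
  rcases Nat.lt_or_ge a 9984 with h25 | h25
  · exact allB_range (f := frl_r53) (lo := 9600) (len := 384) trc_r53_25 (by omega) (by omega)
  rcases Nat.lt_or_ge a 10368 with h26 | h26
  · exact allB_range (f := frl_r53) (lo := 9984) (len := 384) trc_r53_26 (by omega) (by omega)
  rcases Nat.lt_or_ge a 10752 with h27 | h27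
  · exact allB_range (f := frl_r53) (lo := 10368) (len := 384) trc_r53_27 (by omega) (by omega)
  rcases Nat.lt_or_ge a 11136 with h28 | h28
  · exact allB_range (f := frl_r53) (lo := 10752) (len := 384) trc_r53_28 (by omega) (by omega)
  rcases Nat.lt_or_ge a 11520 with h29 | h29
  · exact allB_range (f := frl_r53) (lo := 11136) (len := 384) trc_r53_29 (by omega) (by omega)
  rcases Nat.lt_or_ge a 11904 with h30 | h30
  · exact allB_range (f := frl_r53) (lo := 11520) (len := 384) trc_r53_30 (by omega) (by omega)
  rcases Nat.lt_or_ge a 12288 with h31 | h31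
  · exact allB_range (f := frl_r53) (lo := 11904) (len := 384) trc_r53_31 (by omega) (by omega)
  rcases Nat.lt_or_ge a 12672 with h32 | h32
  · exact allB_range (f := frl_r53) (lo := 12288) (len := 384) trc_r53_32 (by omega) (by omega)
  rcases Nat.lt_or_ge a 13056 with h33 | h33
  · exact allB_range (f := frl_r53) (lo := 12672) (len := 384) trc_r53_33 (by omega) (by omega)
  rcases Nat.lt_or_ge a 13440 with h34 | h34
  · exact allB_range (f := frl_r53) (lo := 13056) (len := 384) trc_r53_34 (by omega) (by omega)
  rcases Nat.lt_or_ge a 13824 with h35 | h35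
  · exact allB_range (f := frl_r53) (lo := 13440) (len := 384) trc_r53_35 (by omega) (by omega)
  rcases Nat.lt_or_ge a 14208 with h36 | h36
  · exact allB_range (f := frl_r53) (lo := 13824) (len := 384) trc_r53_36 (by omega) (by omega)
  rcases Nat.lt_or_ge a 14592 with h37 | h37
  · exact allB_range (f := frl_r53) (lo := 14208) (len := 384) trc_r53_37 (by omega) (by omega)
  rcases Nat.lt_or_ge a 14976 with h38 | h38
  · exact allB_range (f := frl_r53) (lo := 14592) (len := 384) trc_r53_38 (by omega) (by omega)
  rcases Nat.lt_or_ge a 15360 with h39 | h39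
  · exact allB_range (f := frl_r53) (lo := 14976) (len := 384) trc_r53_39 (by omega) (by omega)
  rcases Nat.lt_or_ge a 15744 with h40 | h40
  · exact allB_range (f := frl_r53) (lo := 15360) (len := 384) trc_r53_40 (by omega) (by omega)
  rcases Nat.lt_or_ge a 16128 with h41 | h41
  · exact allB_range (f := frl_r53) (lo := 15744) (len := 384) trc_r53_41 (by omega) (by omega)
  rcases Nat.lt_or_ge a 16512 with h42 | h42
  · exact allB_range (f := frl_r53) (lo := 16128) (len := 384) trc_r53_42 (by omega) (by omega)
  rcases Nat.lt_or_ge a 16896 with h43 | h43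
  · exact allB_range (f := frl_r53) (lo := 16512) (len := 384) trc_r53_43 (by omega) (by omega)
  rcases Nat.lt_or_ge a 17280 with h44 | h44
  · exact allB_range (f := frl_r53) (lo := 16896) (len := 384) trc_r53_44 (by omega) (by omega)
  rcases Nat.lt_or_ge a 17664 with h45 | h45
  · exact allB_range (f := frl_r53) (lo := 17280) (len := 384) trc_r53_45 (by omega) (by omega)
  rcases Nat.lt_or_ge a 18048 with h46 | h46
  · exact allB_range (f := frl_r53) (lo := 17664) (len := 384) trc_r53_46 (by omega) (by omega)
  rcases Nat.lt_or_ge a 18432 with h47 | h47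
  · exact allB_range (f := frl_r53) (lo := 18048) (len := 384) trc_r53_47 (by omega) (by omega)
  rcases Nat.lt_or_ge a 18816 with h48 | h48
  · exact allB_range (f := frl_r53) (lo := 18432) (len := 384) trc_r53_48 (by omega) (by omega)
  rcases Nat.lt_or_ge a 19200 with h49 | h49
  · exact allB_range (f := frl_r53) (lo := 18816) (len := 384) trc_r53_49 (by omega) (by omega)
  rcases Nat.lt_or_ge a 19584 with h50 | h50
  · exact allB_range (f := frl_r53) (lo := 19200) (len := 384) trc_r53_50 (by omega) (by omega)
  rcases Nat.lt_or_ge a 19968 with h51 | h51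
  · exact allB_range (f := frl_r53) (lo := 19584) (len := 384) trc_r53_51 (by omega) (by omega)
  rcases Nat.lt_or_ge a 20352 with h52 | h52
  · exact allB_range (f := frl_r53) (lo := 19968) (len := 384) trc_r53_52 (by omega) (by omega)
  rcases Nat.lt_or_ge a 20736 with h53 | h53
  · exact allB_range (f := frl_r53) (lo := 20352) (len := 384) trc_r53_53 (by omega) (by omega)
  rcases Nat.lt_or_ge a 21120 with h54 | h54
  · exact allB_range (f := frl_r53) (lo := 20736) (len := 384) trc_r53_54 (by omega) (by omega)
  rcases Nat.lt_or_ge a 21504 with h55 | h55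
  · exact allB_range (f := frl_r53) (lo := 21120) (len := 384) trc_r53_55 (by omega) (by omega)
  rcases Nat.lt_or_ge a 21888 with h56 | h56
  · exact allB_range (f := frl_r53) (lo := 21504) (len := 384) trc_r53_56 (by omega) (by omega)
  rcases Nat.lt_or_ge a 22272 with h57 | h57
  · exact allB_range (f := frl_r53) (lo := 21888) (len := 384) trc_r53_57 (by omega) (by omega)
  rcases Nat.lt_or_ge a 22656 with h58 | h58
  · exact allB_range (f := frl_r53) (lo := 22272) (len := 384) trc_r53_58 (by omega) (by omega)
  rcases Nat.lt_or_ge a 23040 with h59 | h59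
  · exact allB_range (f := frl_r53) (lo := 22656) (len := 384) trc_r53_59 (by omega) (by omega)
  rcases Nat.lt_or_ge a 23424 with h60 | h60
  · exact allB_range (f := frl_r53) (lo := 23040) (len := 384) trc_r53_60 (by omega) (by omega)
  rcases Nat.lt_or_ge a 23808 with h61 | h61
  · exact allB_range (f := frl_r53) (lo := 23424) (len := 384) trc_r53_61 (by omega) (by omega)
  rcases Nat.lt_or_ge a 24192 with h62 | h62
  · exact allB_range (f := frl_r53) (lo := 23808) (len := 384) trc_r53_62 (by omega) (by omega)
  rcases Nat.lt_or_ge a 24576 with h63 | h63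
  · exact allB_range (f := frl_r53) (lo := 24192) (len := 384) trc_r53_63 (by omega) (by omega)
  rcases Nat.lt_or_ge a 24960 with h64 | h64
  · exact allB_range (f := frl_r53) (lo := 24576) (len := 384) trc_r53_64 (by omega) (by omega)
  rcases Nat.lt_or_ge a 25344 with h65 | h65
  · exact allB_range (f := frl_r53) (lo := 24960) (len := 384) trc_r53_65 (by omega) (by omega)
  rcases Nat.lt_or_ge a 25728 with h66 | h66
  · exact allB_range (f := frl_r53) (lo := 25344) (len := 384) trc_r53_66 (by omega) (by omega)
  rcases Nat.lt_or_ge a 26112 with h67 | h67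
  · exact allB_range (f := frl_r53) (lo := 25728) (len := 384) trc_r53_67 (by omega) (by omega)
  rcases Nat.lt_or_ge a 26496 with h68 | h68
  · exact allB_range (f := frl_r53) (lo := 26112) (len := 384) trc_r53_68 (by omega) (by omega)
  rcases Nat.lt_or_ge a 26880 with h69 | h69
  · exact allB_range (f := frl_r53) (lo := 26496) (len := 384) trc_r53_69 (by omega) (by omega)
  rcases Nat.lt_or_ge a 27264 with h70 | h70
  · exact allB_range (f := frl_r53) (lo := 26880) (len := 384) trc_r53_70 (by omega) (by omega)
  rcases Nat.lt_or_ge a 27648 with h71 | h71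
  · exact allB_range (f := frl_r53) (lo := 27264) (len := 384) trc_r53_71 (by omega) (by omega)
  rcases Nat.lt_or_ge a 28032 with h72 | h72
  · exact allB_range (f := frl_r53) (lo := 27648) (len := 384) trc_r53_72 (by omega) (by omega)
  rcases Nat.lt_or_ge a 28416 with h73 | h73
  · exact allB_range (f := frl_r53) (lo := 28032) (len := 384) trc_r53_73 (by omega) (by omega)
  rcases Nat.lt_or_ge a 28800 with h74 | h74
  · exact allB_range (f := frl_r53) (lo := 28416) (len := 384) trc_r53_74 (by omega) (by omega)
  rcases Nat.lt_or_ge a 29184 with h75 | h75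
  · exact allB_range (f := frl_r53) (lo := 28800) (len := 384) trc_r53_75 (by omega) (by omega)
  rcases Nat.lt_or_ge a 29568 with h76 | h76
  · exact allB_range (f := frl_r53) (lo := 29184) (len := 384) trc_r53_76 (by omega) (by omega)
  rcases Nat.lt_or_ge a 29952 with h77 | h77
  · exact allB_range (f := frl_r53) (lo := 29568) (len := 384) trc_r53_77 (by omega) (by omega)
  rcases Nat.lt_or_ge a 30336 with h78 | h78
  · exact allB_range (f := frl_r53) (lo := 29952) (len := 384) trc_r53_78 (by omega) (by omega)
  rcases Nat.lt_or_ge a 30720 with h79 | h79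
  · exact allB_range (f := frl_r53) (lo := 30336) (len := 384) trc_r53_79 (by omega) (by omega)
  rcases Nat.lt_or_ge a 31104 with h80 | h80
  · exact allB_range (f := frl_r53) (lo := 30720) (len := 384) trc_r53_80 (by omega) (by omega)
  rcases Nat.lt_or_ge a 31488 with h81 | h81
  · exact allB_range (f := frl_r53) (lo := 31104) (len := 384) trc_r53_81 (by omega) (by omega)
  rcases Nat.lt_or_ge a 31872 with h82 | h82
  · exact allB_range (f := frl_r53) (lo := 31488) (len := 384) trc_r53_82 (by omega) (by omega)
  rcases Nat.lt_or_ge a 32256 with h83 | h83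
  · exact allB_range (f := frl_r53) (lo := 31872) (len := 384) trc_r53_83 (by omega) (by omega)
  rcases Nat.lt_or_ge a 32640 with h84 | h84
  · exact allB_range (f := frl_r53) (lo := 32256) (len := 384) trc_r53_84 (by omega) (by omega)
  exact allB_range (f := frl_r53) (lo := 32640) (len := 120) trc_r53_85 (by omega) (by omega)

theorem rel_r53 : relT tbS 3 (relWords.getD 53 []) = true := trf_r53

theorem trf_X2X2i : allB NB frl_X2X2i = true := by
  apply allB_iff.2
  intro a ha
  have ha' : a < 32760 := ha
  rcases Nat.lt_or_ge a 7500 with h0 | h0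
  · exact allB_range (f := frl_X2X2i) (lo := 0) (len := 7500) trc_X2X2i_0 (by omega) (by omega)
  rcases Nat.lt_or_ge a 15000 with h1 | h1
  · exact allB_range (f := frl_X2X2i) (lo := 7500) (len := 7500) trc_X2X2i_1 (by omega) (by omega)
  rcases Nat.lt_or_ge a 22500 with h2 | h2
  · exact allB_range (f := frl_X2X2i) (lo := 15000) (len := 7500) trc_X2X2i_2 (by omega) (by omega)
  rcases Nat.lt_or_ge a 30000 with h3 | h3
  · exact allB_range (f := frl_X2X2i) (lo := 22500) (len := 7500) trc_X2X2i_3 (by omega) (by omega)
  exact allB_range (f := frl_X2X2i) (lo := 30000) (len := 2760) trc_X2X2i_4 (by omega) (by omega)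

theorem rel_X2X2i : relT tbS 0 (wX2 ++ wX2i) = true := trf_X2X2i

theorem trf_Y2Y2i : allB NB frl_Y2Y2i = true := by
  apply allB_iff.2
  intro a ha
  have ha' : a < 32760 := ha
  rcases Nat.lt_or_ge a 833 with h0 | h0
  · exact allB_range (f := frl_Y2Y2i) (lo := 0) (len := 833) trc_Y2Y2i_0 (by omega) (by omega)
  rcases Nat.lt_or_ge a 1666 with h1 | h1
  · exact allB_range (f := frl_Y2Y2i) (lo := 833) (len := 833) trc_Y2Y2i_1 (by omega) (by omega)
  rcases Nat.lt_or_ge a 2499 with h2 | h2
  · exact allB_range (f := frl_Y2Y2i) (lo := 1666) (len := 833) trc_Y2Y2i_2 (by omega) (by omega)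
  rcases Nat.lt_or_ge a 3332 with h3 | h3
  · exact allB_range (f := frl_Y2Y2i) (lo := 2499) (len := 833) trc_Y2Y2i_3 (by omega) (by omega)
  rcases Nat.lt_or_ge a 4165 with h4 | h4
  · exact allB_range (f := frl_Y2Y2i) (lo := 3332) (len := 833) trc_Y2Y2i_4 (by omega) (by omega)
  rcases Nat.lt_or_ge a 4998 with h5 | h5
  · exact allB_range (f := frl_Y2Y2i) (lo := 4165) (len := 833) trc_Y2Y2i_5 (by omega) (by omega)
  rcases Nat.lt_or_ge a 5831 with h6 | h6
  · exact allB_range (f := frl_Y2Y2i) (lo := 4998) (len := 833) trc_Y2Y2i_6 (by omega) (by omega)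
  rcases Nat.lt_or_ge a 6664 with h7 | h7
  · exact allB_range (f := frl_Y2Y2i) (lo := 5831) (len := 833) trc_Y2Y2i_7 (by omega) (by omega)
  rcases Nat.lt_or_ge a 7497 with h8 | h8
  · exact allB_range (f := frl_Y2Y2i) (lo := 6664) (len := 833) trc_Y2Y2i_8 (by omega) (by omega)
  rcases Nat.lt_or_ge a 8330 with h9 | h9
  · exact allB_range (f := frl_Y2Y2i) (lo := 7497) (len := 833) trc_Y2Y2i_9 (by omega) (by omega)
  rcases Nat.lt_or_ge a 9163 with h10 | h10
  · exact allB_range (f := frl_Y2Y2i) (lo := 8330) (len := 833) trc_Y2Y2i_10 (by omega) (by omega)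
  rcases Nat.lt_or_ge a 9996 with h11 | h11
  · exact allB_range (f := frl_Y2Y2i) (lo := 9163) (len := 833) trc_Y2Y2i_11 (by omega) (by omega)
  rcases Nat.lt_or_ge a 10829 with h12 | h12
  · exact allB_range (f := frl_Y2Y2i) (lo := 9996) (len := 833) trc_Y2Y2i_12 (by omega) (by omega)
  rcases Nat.lt_or_ge a 11662 with h13 | h13
  · exact allB_range (f := frl_Y2Y2i) (lo := 10829) (len := 833) trc_Y2Y2i_13 (by omega) (by omega)
  rcases Nat.lt_or_ge a 12495 with h14 | h14
  · exact allB_range (f := frl_Y2Y2i) (lo := 11662) (len := 833) trc_Y2Y2i_14 (by omega) (by omega)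
  rcases Nat.lt_or_ge a 13328 with h15 | h15
  · exact allB_range (f := frl_Y2Y2i) (lo := 12495) (len := 833) trc_Y2Y2i_15 (by omega) (by omega)
  rcases Nat.lt_or_ge a 14161 with h16 | h16
  · exact allB_range (f := frl_Y2Y2i) (lo := 13328) (len := 833) trc_Y2Y2i_16 (by omega) (by omega)
  rcases Nat.lt_or_ge a 14994 with h17 | h17
  · exact allB_range (f := frl_Y2Y2i) (lo := 14161) (len := 833) trc_Y2Y2i_17 (by omega) (by omega)
  rcases Nat.lt_or_ge a 15827 with h18 | h18
  · exact allB_range (f := frl_Y2Y2i) (lo := 14994) (len := 833) trc_Y2Y2i_18 (by omega) (by omega)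
  rcases Nat.lt_or_ge a 16660 with h19 | h19
  · exact allB_range (f := frl_Y2Y2i) (lo := 15827) (len := 833) trc_Y2Y2i_19 (by omega) (by omega)
  rcases Nat.lt_or_ge a 17493 with h20 | h20
  · exact allB_range (f := frl_Y2Y2i) (lo := 16660) (len := 833) trc_Y2Y2i_20 (by omega) (by omega)
  rcases Nat.lt_or_ge a 18326 with h21 | h21
  · exact allB_range (f := frl_Y2Y2i) (lo := 17493) (len := 833) trc_Y2Y2i_21 (by omega) (by omega)
  rcases Nat.lt_or_ge a 19159 with h22 | h22
  · exact allB_range (f := frl_Y2Y2i) (lo := 18326) (len := 833) trc_Y2Y2i_22 (by omega) (by omega)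
  rcases Nat.lt_or_ge a 19992 with h23 | h23
  · exact allB_range (f := frl_Y2Y2i) (lo := 19159) (len := 833) trc_Y2Y2i_23 (by omega) (by omega)
  rcases Nat.lt_or_ge a 20825 with h24 | h24
  · exact allB_range (f := frl_Y2Y2i) (lo := 19992) (len := 833) trc_Y2Y2i_24 (by omega) (by omega)
  rcases Nat.lt_or_ge a 21658 with h25 | h25
  · exact allB_range (f := frl_Y2Y2i) (lo := 20825) (len := 833) trc_Y2Y2i_25 (by omega) (by omega)
  rcases Nat.lt_or_ge a 22491 with h26 | h26
  · exact allB_range (f := frl_Y2Y2i) (lo := 21658) (len := 833) trc_Y2Y2i_26 (by omega) (by omega)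
  rcases Nat.lt_or_ge a 23324 with h27 | h27
  · exact allB_range (f := frl_Y2Y2i) (lo := 22491) (len := 833) trc_Y2Y2i_27 (by omega) (by omega)
  rcases Nat.lt_or_ge a 24157 with h28 | h28
  · exact allB_range (f := frl_Y2Y2i) (lo := 23324) (len := 833) trc_Y2Y2i_28 (by omega) (by omega)
  rcases Nat.lt_or_ge a 24990 with h29 | h29
  · exact allB_range (f := frl_Y2Y2i) (lo := 24157) (len := 833) trc_Y2Y2i_29 (by omega) (by omega)
  rcases Nat.lt_or_ge a 25823 with h30 | h30
  · exact allB_range (f := frl_Y2Y2i) (lo := 24990) (len := 833) trc_Y2Y2i_30 (by omega) (by omega)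
  rcases Nat.lt_or_ge a 26656 with h31 | h31
  · exact allB_range (f := frl_Y2Y2i) (lo := 25823) (len := 833) trc_Y2Y2i_31 (by omega) (by omega)
  rcases Nat.lt_or_ge a 27489 with h32 | h32
  · exact allB_range (f := frl_Y2Y2i) (lo := 26656) (len := 833) trc_Y2Y2i_32 (by omega) (by omega)
  rcases Nat.lt_or_ge a 28322 with h33 | h33
  · exact allB_range (f := frl_Y2Y2i) (lo := 27489) (len := 833) trc_Y2Y2i_33 (by omega) (by omega)
  rcases Nat.lt_or_ge a 29155 with h34 | h34
  · exact allB_range (f := frl_Y2Y2i) (lo := 28322) (len := 833) trc_Y2Y2i_34 (by omega) (by omega)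
  rcases Nat.lt_or_ge a 29988 with h35 | h35
  · exact allB_range (f := frl_Y2Y2i) (lo := 29155) (len := 833) trc_Y2Y2i_35 (by omega) (by omega)
  rcases Nat.lt_or_ge a 30821 with h36 | h36
  · exact allB_range (f := frl_Y2Y2i) (lo := 29988) (len := 833) trc_Y2Y2i_36 (by omega) (by omega)
  rcases Nat.lt_or_ge a 31654 with h37 | h37
  · exact allB_range (f := frl_Y2Y2i) (lo := 30821) (len := 833) trc_Y2Y2i_37 (by omega) (by omega)
  rcases Nat.lt_or_ge a 32487 with h38 | h38
  · exact allB_range (f := frl_Y2Y2i) (lo := 31654) (len := 833) trc_Y2Y2i_38 (by omega) (by omega)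
  exact allB_range (f := frl_Y2Y2i) (lo := 32487) (len := 273) trc_Y2Y2i_39 (by omega) (by omega)

theorem rel_Y2Y2i : relT tbS 0 (wY2 ++ wY2i) = true := trf_Y2Y2i

theorem trf_W2 : allB NB frl_W2 = true := by
  apply allB_iff.2
  intro a ha
  have ha' : a < 32760 := ha
  rcases Nat.lt_or_ge a 750 with h0 | h0
  · exact allB_range (f := frl_W2) (lo := 0) (len := 750) trc_W2_0 (by omega) (by omega)
  rcases Nat.lt_or_ge a 1500 with h1 | h1
  · exact allB_range (f := frl_W2) (lo := 750) (len := 750) trc_W2_1 (by omega) (by omega)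
  rcases Nat.lt_or_ge a 2250 with h2 | h2
  · exact allB_range (f := frl_W2) (lo := 1500) (len := 750) trc_W2_2 (by omega) (by omega)
  rcases Nat.lt_or_ge a 3000 with h3 | h3
  · exact allB_range (f := frl_W2) (lo := 2250) (len := 750) trc_W2_3 (by omega) (by omega)
  rcases Nat.lt_or_ge a 3750 with h4 | h4
  · exact allB_range (f := frl_W2) (lo := 3000) (len := 750) trc_W2_4 (by omega) (by omega)
  rcases Nat.lt_or_ge a 4500 with h5 | h5
  · exact allB_range (f := frl_W2) (lo := 3750) (len := 750) trc_W2_5 (by omega) (by omega)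
  rcases Nat.lt_or_ge a 5250 with h6 | h6
  · exact allB_range (f := frl_W2) (lo := 4500) (len := 750) trc_W2_6 (by omega) (by omega)
  rcases Nat.lt_or_ge a 6000 with h7 | h7
  · exact allB_range (f := frl_W2) (lo := 5250) (len := 750) trc_W2_7 (by omega) (by omega)
  rcases Nat.lt_or_ge a 6750 with h8 | h8
  · exact allB_range (f := frl_W2) (lo := 6000) (len := 750) trc_W2_8 (by omega) (by omega)
  rcases Nat.lt_or_ge a 7500 with h9 | h9
  · exact allB_range (f := frl_W2) (lo := 6750) (len := 750) trc_W2_9 (by omega) (by omega)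
  rcases Nat.lt_or_ge a 8250 with h10 | h10
  · exact allB_range (f := frl_W2) (lo := 7500) (len := 750) trc_W2_10 (by omega) (by omega)
  rcases Nat.lt_or_ge a 9000 with h11 | h11
  · exact allB_range (f := frl_W2) (lo := 8250) (len := 750) trc_W2_11 (by omega) (by omega)
  rcases Nat.lt_or_ge a 9750 with h12 | h12
  · exact allB_range (f := frl_W2) (lo := 9000) (len := 750) trc_W2_12 (by omega) (by omega)
  rcases Nat.lt_or_ge a 10500 with h13 | h13
  · exact allB_range (f := frl_W2) (lo := 9750) (len := 750) trc_W2_13 (by omega) (by omega)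
  rcases Nat.lt_or_ge a 11250 with h14 | h14
  · exact allB_range (f := frl_W2) (lo := 10500) (len := 750) trc_W2_14 (by omega) (by omega)
  rcases Nat.lt_or_ge a 12000 with h15 | h15
  · exact allB_range (f := frl_W2) (lo := 11250) (len := 750) trc_W2_15 (by omega) (by omega)
  rcases Nat.lt_or_ge a 12750 with h16 | h16
  · exact allB_range (f := frl_W2) (lo := 12000) (len := 750) trc_W2_16 (by omega) (by omega)
  rcases Nat.lt_or_ge a 13500 with h17 | h17
  · exact allB_range (f := frl_W2) (lo := 12750) (len := 750) trc_W2_17 (by omega) (by omega)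
  rcases Nat.lt_or_ge a 14250 with h18 | h18
  · exact allB_range (f := frl_W2) (lo := 13500) (len := 750) trc_W2_18 (by omega) (by omega)
  rcases Nat.lt_or_ge a 15000 with h19 | h19
  · exact allB_range (f := frl_W2) (lo := 14250) (len := 750) trc_W2_19 (by omega) (by omega)
  rcases Nat.lt_or_ge a 15750 with h20 | h20
  · exact allB_range (f := frl_W2) (lo := 15000) (len := 750) trc_W2_20 (by omega) (by omega)
  rcases Nat.lt_or_ge a 16500 with h21 | h21
  · exact allB_range (f := frl_W2) (lo := 15750) (len := 750) trc_W2_21 (by omega) (by omega)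
  rcases Nat.lt_or_ge a 17250 with h22 | h22
  · exact allB_range (f := frl_W2) (lo := 16500) (len := 750) trc_W2_22 (by omega) (by omega)
  rcases Nat.lt_or_ge a 18000 with h23 | h23
  · exact allB_range (f := frl_W2) (lo := 17250) (len := 750) trc_W2_23 (by omega) (by omega)
  rcases Nat.lt_or_ge a 18750 with h24 | h24
  · exact allB_range (f := frl_W2) (lo := 18000) (len := 750) trc_W2_24 (by omega) (by omega)
  rcases Nat.lt_or_ge a 19500 with h25 | h25
  · exact allB_range (f := frl_W2) (lo := 18750) (len := 750) trc_W2_25 (by omega) (by omega)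
  rcases Nat.lt_or_ge a 20250 with h26 | h26
  · exact allB_range (f := frl_W2) (lo := 19500) (len := 750) trc_W2_26 (by omega) (by omega)
  rcases Nat.lt_or_ge a 21000 with h27 | h27
  · exact allB_range (f := frl_W2) (lo := 20250) (len := 750) trc_W2_27 (by omega) (by omega)
  rcases Nat.lt_or_ge a 21750 with h28 | h28
  · exact allB_range (f := frl_W2) (lo := 21000) (len := 750) trc_W2_28 (by omega) (by omega)
  rcases Nat.lt_or_ge a 22500 with h29 | h29
  · exact allB_range (f := frl_W2) (lo := 21750) (len := 750) trc_W2_29 (by omega) (by omega)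
  rcases Nat.lt_or_ge a 23250 with h30 | h30
  · exact allB_range (f := frl_W2) (lo := 22500) (len := 750) trc_W2_30 (by omega) (by omega)
  rcases Nat.lt_or_ge a 24000 with h31 | h31
  · exact allB_range (f := frl_W2) (lo := 23250) (len := 750) trc_W2_31 (by omega) (by omega)
  rcases Nat.lt_or_ge a 24750 with h32 | h32
  · exact allB_range (f := frl_W2) (lo := 24000) (len := 750) trc_W2_32 (by omega) (by omega)
  rcases Nat.lt_or_ge a 25500 with h33 | h33
  · exact allB_range (f := frl_W2) (lo := 24750) (len := 750) trc_W2_33 (by omega) (by omega)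
  rcases Nat.lt_or_ge a 26250 with h34 | h34
  · exact allB_range (f := frl_W2) (lo := 25500) (len := 750) trc_W2_34 (by omega) (by omega)
  rcases Nat.lt_or_ge a 27000 with h35 | h35
  · exact allB_range (f := frl_W2) (lo := 26250) (len := 750) trc_W2_35 (by omega) (by omega)
  rcases Nat.lt_or_ge a 27750 with h36 | h36
  · exact allB_range (f := frl_W2) (lo := 27000) (len := 750) trc_W2_36 (by omega) (by omega)
  rcases Nat.lt_or_ge a 28500 with h37 | h37
  · exact allB_range (f := frl_W2) (lo := 27750) (len := 750) trc_W2_37 (by omega) (by omega)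
  rcases Nat.lt_or_ge a 29250 with h38 | h38
  · exact allB_range (f := frl_W2) (lo := 28500) (len := 750) trc_W2_38 (by omega) (by omega)
  rcases Nat.lt_or_ge a 30000 with h39 | h39
  · exact allB_range (f := frl_W2) (lo := 29250) (len := 750) trc_W2_39 (by omega) (by omega)
  rcases Nat.lt_or_ge a 30750 with h40 | h40
  · exact allB_range (f := frl_W2) (lo := 30000) (len := 750) trc_W2_40 (by omega) (by omega)
  rcases Nat.lt_or_ge a 31500 with h41 | h41
  · exact allB_range (f := frl_W2) (lo := 30750) (len := 750) trc_W2_41 (by omega) (by omega)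
  rcases Nat.lt_or_ge a 32250 with h42 | h42
  · exact allB_range (f := frl_W2) (lo := 31500) (len := 750) trc_W2_42 (by omega) (by omega)
  exact allB_range (f := frl_W2) (lo := 32250) (len := 510) trc_W2_43 (by omega) (by omega)

theorem rel_W2 : relT tbS 3 (wX2 ++ (wY2 ++ (wX2i ++ wY2i))) = true := trf_W2

theorem trf_X3X3i : allB NB frl_X3X3i = true := by
  apply allB_iff.2
  intro a ha
  have ha' : a < 32760 := ha
  rcases Nat.lt_or_ge a 7500 with h0 | h0
  · exact allB_range (f := frl_X3X3i) (lo := 0) (len := 7500) trc_X3X3i_0 (by omega) (by omega)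
  rcases Nat.lt_or_ge a 15000 with h1 | h1
  · exact allB_range (f := frl_X3X3i) (lo := 7500) (len := 7500) trc_X3X3i_1 (by omega) (by omega)
  rcases Nat.lt_or_ge a 22500 with h2 | h2
  · exact allB_range (f := frl_X3X3i) (lo := 15000) (len := 7500) trc_X3X3i_2 (by omega) (by omega)
  rcases Nat.lt_or_ge a 30000 with h3 | h3
  · exact allB_range (f := frl_X3X3i) (lo := 22500) (len := 7500) trc_X3X3i_3 (by omega) (by omega)
  exact allB_range (f := frl_X3X3i) (lo := 30000) (len := 2760) trc_X3X3i_4 (by omega) (by omega)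

theorem rel_X3X3i : relT tbS 0 (wX3 ++ wX3i) = true := trf_X3X3i

theorem trf_Y3Y3i : allB NB frl_Y3Y3i = true := by
  apply allB_iff.2
  intro a ha
  have ha' : a < 32760 := ha
  rcases Nat.lt_or_ge a 1071 with h0 | h0
  · exact allB_range (f := frl_Y3Y3i) (lo := 0) (len := 1071) trc_Y3Y3i_0 (by omega) (by omega)
  rcases Nat.lt_or_ge a 2142 with h1 | h1
  · exact allB_range (f := frl_Y3Y3i) (lo := 1071) (len := 1071) trc_Y3Y3i_1 (by omega) (by omega)
  rcases Nat.lt_or_ge a 3213 with h2 | h2
  · exact allB_range (f := frl_Y3Y3i) (lo := 2142) (len := 1071) trc_Y3Y3i_2 (by omega) (by omega)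
  rcases Nat.lt_or_ge a 4284 with h3 | h3
  · exact allB_range (f := frl_Y3Y3i) (lo := 3213) (len := 1071) trc_Y3Y3i_3 (by omega) (by omega)
  rcases Nat.lt_or_ge a 5355 with h4 | h4
  · exact allB_range (f := frl_Y3Y3i) (lo := 4284) (len := 1071) trc_Y3Y3i_4 (by omega) (by omega)
  rcases Nat.lt_or_ge a 6426 with h5 | h5
  · exact allB_range (f := frl_Y3Y3i) (lo := 5355) (len := 1071) trc_Y3Y3i_5 (by omega) (by omega)
  rcases Nat.lt_or_ge a 7497 with h6 | h6
  · exact allB_range (f := frl_Y3Y3i) (lo := 6426) (len := 1071) trc_Y3Y3i_6 (by omega) (by omega)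
  rcases Nat.lt_or_ge a 8568 with h7 | h7
  · exact allB_range (f := frl_Y3Y3i) (lo := 7497) (len := 1071) trc_Y3Y3i_7 (by omega) (by omega)
  rcases Nat.lt_or_ge a 9639 with h8 | h8
  · exact allB_range (f := frl_Y3Y3i) (lo := 8568) (len := 1071) trc_Y3Y3i_8 (by omega) (by omega)
  rcases Nat.lt_or_ge a 10710 with h9 | h9
  · exact allB_range (f := frl_Y3Y3i) (lo := 9639) (len := 1071) trc_Y3Y3i_9 (by omega) (by omega)
  rcases Nat.lt_or_ge a 11781 with h10 | h10
  · exact allB_range (f := frl_Y3Y3i) (lo := 10710) (len := 1071) trc_Y3Y3i_10 (by omega) (by omega)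
  rcases Nat.lt_or_ge a 12852 with h11 | h11
  · exact allB_range (f := frl_Y3Y3i) (lo := 11781) (len := 1071) trc_Y3Y3i_11 (by omega) (by omega)
  rcases Nat.lt_or_ge a 13923 with h12 | h12
  · exact allB_range (f := frl_Y3Y3i) (lo := 12852) (len := 1071) trc_Y3Y3i_12 (by omega) (by omega)
  rcases Nat.lt_or_ge a 14994 with h13 | h13
  · exact allB_range (f := frl_Y3Y3i) (lo := 13923) (len := 1071) trc_Y3Y3i_13 (by omega) (by omega)
  rcases Nat.lt_or_ge a 16065 with h14 | h14
  · exact allB_range (f := frl_Y3Y3i) (lo := 14994) (len := 1071) trc_Y3Y3i_14 (by omega) (by omega)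
  rcases Nat.lt_or_ge a 17136 with h15 | h15
  · exact allB_range (f := frl_Y3Y3i) (lo := 16065) (len := 1071) trc_Y3Y3i_15 (by omega) (by omega)
  rcases Nat.lt_or_ge a 18207 with h16 | h16
  · exact allB_range (f := frl_Y3Y3i) (lo := 17136) (len := 1071) trc_Y3Y3i_16 (by omega) (by omega)
  rcases Nat.lt_or_ge a 19278 with h17 | h17
  · exact allB_range (f := frl_Y3Y3i) (lo := 18207) (len := 1071) trc_Y3Y3i_17 (by omega) (by omega)
  rcases Nat.lt_or_ge a 20349 with h18 | h18
  · exact allB_range (f := frl_Y3Y3i) (lo := 19278) (len := 1071) trc_Y3Y3i_18 (by omega) (by omega)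
  rcases Nat.lt_or_ge a 21420 with h19 | h19
  · exact allB_range (f := frl_Y3Y3i) (lo := 20349) (len := 1071) trc_Y3Y3i_19 (by omega) (by omega)
  rcases Nat.lt_or_ge a 22491 with h20 | h20
  · exact allB_range (f := frl_Y3Y3i) (lo := 21420) (len := 1071) trc_Y3Y3i_20 (by omega) (by omega)
  rcases Nat.lt_or_ge a 23562 with h21 | h21
  · exact allB_range (f := frl_Y3Y3i) (lo := 22491) (len := 1071) trc_Y3Y3i_21 (by omega) (by omega)
  rcases Nat.lt_or_ge a 24633 with h22 | h22
  · exact allB_range (f := frl_Y3Y3i) (lo := 23562) (len := 1071) trc_Y3Y3i_22 (by omega) (by omega)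
  rcases Nat.lt_or_ge a 25704 with h23 | h23
  · exact allB_range (f := frl_Y3Y3i) (lo := 24633) (len := 1071) trc_Y3Y3i_23 (by omega) (by omega)
  rcases Nat.lt_or_ge a 26775 with h24 | h24
  · exact allB_range (f := frl_Y3Y3i) (lo := 25704) (len := 1071) trc_Y3Y3i_24 (by omega) (by omega)
  rcases Nat.lt_or_ge a 27846 with h25 | h25
  · exact allB_range (f := frl_Y3Y3i) (lo := 26775) (len := 1071) trc_Y3Y3i_25 (by omega) (by omega)
  rcases Nat.lt_or_ge a 28917 with h26 | h26
  · exact allB_range (f := frl_Y3Y3i) (lo := 27846) (len := 1071) trc_Y3Y3i_26 (by omega) (by omega)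
  rcases Nat.lt_or_ge a 29988 with h27 | h27
  · exact allB_range (f := frl_Y3Y3i) (lo := 28917) (len := 1071) trc_Y3Y3i_27 (by omega) (by omega)
  rcases Nat.lt_or_ge a 31059 with h28 | h28
  · exact allB_range (f := frl_Y3Y3i) (lo := 29988) (len := 1071) trc_Y3Y3i_28 (by omega) (by omega)
  rcases Nat.lt_or_ge a 32130 with h29 | h29
  · exact allB_range (f := frl_Y3Y3i) (lo := 31059) (len := 1071) trc_Y3Y3i_29 (by omega) (by omega)
  exact allB_range (f := frl_Y3Y3i) (lo := 32130) (len := 630) trc_Y3Y3i_30 (by omega) (by omega)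

theorem rel_Y3Y3i : relT tbS 0 (wY3 ++ wY3i) = true := trf_Y3Y3i

theorem trf_W3 : allB NB frl_W3 = true := by
  apply allB_iff.2
  intro a ha
  have ha' : a < 32760 := ha
  rcases Nat.lt_or_ge a 937 with h0 | h0
  · exact allB_range (f := frl_W3) (lo := 0) (len := 937) trc_W3_0 (by omega) (by omega)
  rcases Nat.lt_or_ge a 1874 with h1 | h1
  · exact allB_range (f := frl_W3) (lo := 937) (len := 937) trc_W3_1 (by omega) (by omega)
  rcases Nat.lt_or_ge a 2811 with h2 | h2
  · exact allB_range (f := frl_W3) (lo := 1874) (len := 937) trc_W3_2 (by omega) (by omega)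
  rcases Nat.lt_or_ge a 3748 with h3 | h3
  · exact allB_range (f := frl_W3) (lo := 2811) (len := 937) trc_W3_3 (by omega) (by omega)
  rcases Nat.lt_or_ge a 4685 with h4 | h4
  · exact allB_range (f := frl_W3) (lo := 3748) (len := 937) trc_W3_4 (by omega) (by omega)
  rcases Nat.lt_or_ge a 5622 with h5 | h5
  · exact allB_range (f := frl_W3) (lo := 4685) (len := 937) trc_W3_5 (by omega) (by omega)
  rcases Nat.lt_or_ge a 6559 with h6 | h6
  · exact allB_range (f := frl_W3) (lo := 5622) (len := 937) trc_W3_6 (by omega) (by omega)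
  rcases Nat.lt_or_ge a 7496 with h7 | h7
  · exact allB_range (f := frl_W3) (lo := 6559) (len := 937) trc_W3_7 (by omega) (by omega)
  rcases Nat.lt_or_ge a 8433 with h8 | h8
  · exact allB_range (f := frl_W3) (lo := 7496) (len := 937) trc_W3_8 (by omega) (by omega)
  rcases Nat.lt_or_ge a 9370 with h9 | h9
  · exact allB_range (f := frl_W3) (lo := 8433) (len := 937) trc_W3_9 (by omega) (by omega)
  rcases Nat.lt_or_ge a 10307 with h10 | h10
  · exact allB_range (f := frl_W3) (lo := 9370) (len := 937) trc_W3_10 (by omega) (by omega)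
  rcases Nat.lt_or_ge a 11244 with h11 | h11
  · exact allB_range (f := frl_W3) (lo := 10307) (len := 937) trc_W3_11 (by omega) (by omega)
  rcases Nat.lt_or_ge a 12181 with h12 | h12
  · exact allB_range (f := frl_W3) (lo := 11244) (len := 937) trc_W3_12 (by omega) (by omega)
  rcases Nat.lt_or_ge a 13118 with h13 | h13
  · exact allB_range (f := frl_W3) (lo := 12181) (len := 937) trc_W3_13 (by omega) (by omega)
  rcases Nat.lt_or_ge a 14055 with h14 | h14
  · exact allB_range (f := frl_W3) (lo := 13118) (len := 937) trc_W3_14 (by omega) (by omega)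
  rcases Nat.lt_or_ge a 14992 with h15 | h15
  · exact allB_range (f := frl_W3) (lo := 14055) (len := 937) trc_W3_15 (by omega) (by omega)
  rcases Nat.lt_or_ge a 15929 with h16 | h16
  · exact allB_range (f := frl_W3) (lo := 14992) (len := 937) trc_W3_16 (by omega) (by omega)
  rcases Nat.lt_or_ge a 16866 with h17 | h17
  · exact allB_range (f := frl_W3) (lo := 15929) (len := 937) trc_W3_17 (by omega) (by omega)
  rcases Nat.lt_or_ge a 17803 with h18 | h18
  · exact allB_range (f := frl_W3) (lo := 16866) (len := 937) trc_W3_18 (by omega) (by omega)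
  rcases Nat.lt_or_ge a 18740 with h19 | h19
  · exact allB_range (f := frl_W3) (lo := 17803) (len := 937) trc_W3_19 (by omega) (by omega)
  rcases Nat.lt_or_ge a 19677 with h20 | h20
  · exact allB_range (f := frl_W3) (lo := 18740) (len := 937) trc_W3_20 (by omega) (by omega)
  rcases Nat.lt_or_ge a 20614 with h21 | h21
  · exact allB_range (f := frl_W3) (lo := 19677) (len := 937) trc_W3_21 (by omega) (by omega)
  rcases Nat.lt_or_ge a 21551 with h22 | h22
  · exact allB_range (f := frl_W3) (lo := 20614) (len := 937) trc_W3_22 (by omega) (by omega)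
  rcases Nat.lt_or_ge a 22488 with h23 | h23
  · exact allB_range (f := frl_W3) (lo := 21551) (len := 937) trc_W3_23 (by omega) (by omega)
  rcases Nat.lt_or_ge a 23425 with h24 | h24
  · exact allB_range (f := frl_W3) (lo := 22488) (len := 937) trc_W3_24 (by omega) (by omega)
  rcases Nat.lt_or_ge a 24362 with h25 | h25
  · exact allB_range (f := frl_W3) (lo := 23425) (len := 937) trc_W3_25 (by omega) (by omega)
  rcases Nat.lt_or_ge a 25299 with h26 | h26
  · exact allB_range (f := frl_W3) (lo := 24362) (len := 937) trc_W3_26 (by omega) (by omega)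
  rcases Nat.lt_or_ge a 26236 with h27 | h27
  · exact allB_range (f := frl_W3) (lo := 25299) (len := 937) trc_W3_27 (by omega) (by omega)
  rcases Nat.lt_or_ge a 27173 with h28 | h28
  · exact allB_range (f := frl_W3) (lo := 26236) (len := 937) trc_W3_28 (by omega) (by omega)
  rcases Nat.lt_or_ge a 28110 with h29 | h29
  · exact allB_range (f := frl_W3) (lo := 27173) (len := 937) trc_W3_29 (by omega) (by omega)
  rcases Nat.lt_or_ge a 29047 with h30 | h30
  · exact allB_range (f := frl_W3) (lo := 28110) (len := 937) trc_W3_30 (by omega) (by omega)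
  rcases Nat.lt_or_ge a 29984 with h31 | h31
  · exact allB_range (f := frl_W3) (lo := 29047) (len := 937) trc_W3_31 (by omega) (by omega)
  rcases Nat.lt_or_ge a 30921 with h32 | h32
  · exact allB_range (f := frl_W3) (lo := 29984) (len := 937) trc_W3_32 (by omega) (by omega)
  rcases Nat.lt_or_ge a 31858 with h33 | h33
  · exact allB_range (f := frl_W3) (lo := 30921) (len := 937) trc_W3_33 (by omega) (by omega)
  exact allB_range (f := frl_W3) (lo := 31858) (len := 902) trc_W3_34 (by omega) (by omega)

theorem rel_W3 : relT tbS 4 (wX3 ++ (wY3 ++ (wX3i ++ wY3i))) = true := trf_W3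


end Cfsg.Agent.Lib.Helper5.SuzCov
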